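import Mathlib.Algebra.Category.ModuleCat.Projective
import Mathlib.Algebra.Category.ModuleCat.Colimits
import Mathlib.Algebra.Category.ModuleCat.Monoidal.Closed
import Mathlib.Algebra.Category.ModuleCat.Monoidal.Symmetric
import Mathlib.Algebra.Homology.HomologicalComplexAbelian
import Mathlib.Algebra.Homology.HomologySequence
import Mathlib.CategoryTheory.Abelian.LeftDerived
import Mathlib.CategoryTheory.Monoidal.Tor
import Mathlib.RingTheory.Flat.Basic
import Mathlib.RingTheory.Flat.CategoryTheory
import Groth.Prelude.Def_DRing2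

/-! Dimension shifting for `Tor` in the first variable along flat presentations. -/

open CategoryTheory CategoryTheory.Limits MonoidalCategory LinearMap

universe u

namespace Groth.Agent.TorLib

variable {A : Type u} [CommRing A]

section
variable {N : ModuleCat.{u} A} (P : ProjectiveResolution N)

/-- `M ⊗ P`. -/
noncomputable abbrev cx (M : ModuleCat.{u} A) : ChainComplex (ModuleCat.{u} A) ℕ :=
  ((tensorLeft M).mapHomologicalComplex _).obj P.complex

/-- The map `M ⊗ P → M' ⊗ P`. -/
noncomputable abbrev cxMap {M M' : ModuleCat.{u} A} (g : M ⟶ M') : cx P M ⟶ cx P M' :=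
  (NatTrans.mapHomologicalComplex ((tensoringLeft (ModuleCat.{u} A)).map g) _).app P.complex

theorem flat_X (n : ℕ) : Module.Flat A (P.complex.X n) := by
  haveI := P.projective n
  haveI : Module.Projective A (P.complex.X n) :=
    (IsProjective.iff_projective _).mpr inferInstance
  infer_instance

theorem exactAt_succ_of_flat (M : ModuleCat.{u} A) [Module.Flat A M] (n : ℕ) :
    (cx P M).ExactAt (n + 1) := by
  rw [HomologicalComplex.exactAt_iff' _ (n + 2) (n + 1) n (by simp) (by simp)]
  rw [CategoryTheory.ShortComplex.ShortExact.moduleCat_exact_iff_function_exact]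
  exact Module.Flat.lTensor_exact M ((ShortComplex.ShortExact.moduleCat_exact_iff_function_exact _).mp
    (P.exact_succ n))

theorem d_π : P.complex.d 1 0 ≫ P.π.f 0 = 0 := P.complex_d_comp_π_f_zero

/-- `H_0 = opcycles → M ⊗ N`. -/
noncomputable def aug (M : ModuleCat.{u} A) : (cx P M).opcycles 0 ⟶ M ⊗ N :=
  (cx P M).descOpcycles (M ◁ P.π.f 0) 1 (by simp) (by
    show (M ◁ P.complex.d 1 0) ≫ (M ◁ P.π.f 0) = 0
    rw [← MonoidalCategory.whiskerLeft_comp, d_π]
    exact (tensorLeft M).map_zero _ _)

theorem p_aug (M : ModuleCat.{u} A) : (cx P M).pOpcycles 0 ≫ aug P M = M ◁ P.π.f 0 :=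
  HomologicalComplex.p_descOpcycles _ _ _ _ _

theorem isIso_aug (M : ModuleCat.{u} A) : IsIso (aug P M) := by
  let c := isColimitOfPreserves (tensorLeft M) P.isColimitCokernelCofork
  let c' : IsColimit (CokernelCofork.ofπ (f := (tensorLeft M).map (P.complex.d 1 0))
      ((tensorLeft M).map (P.π.f 0)) (by rw [← Functor.map_comp, d_π, Functor.map_zero])) :=
    CokernelCofork.mapIsColimit _ P.isColimitCokernelCofork (tensorLeft M)
  let h := (cx P M).opcyclesIsCokernel 1 0 (by simp)
  let e := h.coconePointUniqueUpToIso c'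
  have : aug P M = e.hom := by
    rw [← cancel_epi ((cx P M).pOpcycles 0), p_aug]
    exact (h.comp_coconePointUniqueUpToIso_hom c' WalkingParallelPair.one).symm
  rw [this]; infer_instance

theorem aug_naturality {M M' : ModuleCat.{u} A} (g : M ⟶ M') :
    HomologicalComplex.opcyclesMap (cxMap P g) 0 ≫ aug P M' = aug P M ≫ (g ▷ N) := by
  rw [← cancel_epi ((cx P M).pOpcycles 0), HomologicalComplex.p_opcyclesMap_assoc, p_aug,
    ← Category.assoc, p_aug]
  exact (MonoidalCategory.whisker_exchange _ _).symm

/-- `H_0(M ⊗ P) = M ⊗ N`. -/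
noncomputable def h0Iso (M : ModuleCat.{u} A) : (cx P M).homology 0 ≅ M ⊗ N :=
  haveI := isIso_aug P M
  (cx P M).isoHomologyι₀ ≪≫ asIso (aug P M)

theorem h0Iso_naturality {M M' : ModuleCat.{u} A} (g : M ⟶ M') :
    HomologicalComplex.homologyMap (cxMap P g) 0 ≫ (h0Iso P M').hom = (h0Iso P M).hom ≫ (g ▷ N) := by
  simp only [h0Iso, Iso.trans_hom, asIso_hom, ChainComplex.isoHomologyι₀, HomologicalComplex.isoHomologyι_hom]
  rw [← Category.assoc, HomologicalComplex.homologyι_naturality, Category.assoc, aug_naturality, Category.assoc]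

variable {S : ShortComplex (ModuleCat.{u} A)}

/-- The short complex of complexes. -/
noncomputable abbrev cxSeq (S : ShortComplex (ModuleCat.{u} A)) :
    ShortComplex (ChainComplex (ModuleCat.{u} A) ℕ) :=
  ShortComplex.mk (cxMap P S.f) (cxMap P S.g) (by
    ext n : 1
    show S.f ▷ P.complex.X n ≫ S.g ▷ P.complex.X n = 0
    rw [← MonoidalCategory.comp_whiskerRight, S.zero]
    exact MonoidalPreadditive.zero_whiskerRight)

theorem cxSeq_shortExact (hS : S.ShortExact) : (cxSeq P S).ShortExact := by
  refine HomologicalComplex.shortExact_of_degreewise_shortExact _ fun n => ?_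
  haveI := flat_X P n
  have hf : Function.Injective S.f.hom := (ModuleCat.mono_iff_injective _).mp hS.mono_f
  have hg : Function.Surjective S.g.hom := (ModuleCat.epi_iff_surjective _).mp hS.epi_g
  have hfg : Function.Exact S.f.hom S.g.hom :=
    (ShortComplex.ShortExact.moduleCat_exact_iff_function_exact _).mp hS.exact
  exact
    { exact := (ShortComplex.ShortExact.moduleCat_exact_iff_function_exact _).mpr
        (rTensor_exact (P.complex.X n) hfg hg)
      mono_f := (ModuleCat.mono_iff_injective _).mpr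
        (Module.Flat.rTensor_preserves_injective_linearMap _ hf)
      epi_g := (ModuleCat.epi_iff_surjective _).mpr (LinearMap.rTensor_surjective _ hg) }

theorem isZero_X₂ [Module.Flat A S.X₂] (n : ℕ) : IsZero ((cxSeq P S).X₂.homology (n + 1)) :=
  (HomologicalComplex.exactAt_iff_isZero_homology _ _).mp (exactAt_succ_of_flat P S.X₂ n)

/-- Dimension shifting. -/
noncomputable def shiftIso (hS : S.ShortExact) [Module.Flat A S.X₂] (n : ℕ) :
    (cx P S.X₃).homology (n + 2) ≅ (cx P S.X₁).homology (n + 1) :=
  (cxSeq_shortExact P hS).δIso (n + 2) (n + 1) (by simp) (isZero_X₂ P (n + 1)) (isZero_X₂ P n)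

/-- `H_1(M ⊗ P) = ker (K ⊗ N → F ⊗ N)`. -/
noncomputable def oneIso (hS : S.ShortExact) [Module.Flat A S.X₂] :
    (cx P S.X₃).homology 1 ≅ ModuleCat.of A (ker (S.f ▷ N).hom) := by
  let h := cxSeq_shortExact P hS
  have hex := h.homology_exact₁ 1 0 (by simp)
  haveI : Mono (h.δ 1 0 (by simp)) :=
    (h.homology_exact₃ 1 0 (by simp)).mono_g ((isZero_X₂ P 0).eq_of_src _ _)
  let e := hex.fIsKernel.conePointUniqueUpToIso (ModuleCat.kernelIsLimit _)
  refine e ≪≫ LinearEquiv.toModuleIso (LinearEquiv.ofSubmodules (h0Iso P S.X₁).toLinearEquiv _ _ ?_)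
  ext z
  obtain ⟨z, rfl⟩ := (h0Iso P S.X₁).toLinearEquiv.surjective z
  rw [Submodule.map_equiv_eq_comap_symm, Submodule.mem_comap]
  simp only [LinearEquiv.coe_coe, LinearEquiv.symm_apply_apply, mem_ker]
  refine Iff.trans ?_ (Eq.congr_left (ConcreteCategory.congr_hom (h0Iso_naturality P S.f) z))
  exact (map_eq_zero_iff _ (h0Iso P S.X₂).toLinearEquiv.injective).symm

end

/-- `Tor` is computed by any projective resolution. -/
noncomputable def torIso {N : ModuleCat.{u} A} (P : ProjectiveResolution N) (M : ModuleCat.{u} A) (n : ℕ) :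
    ((CategoryTheory.Tor (ModuleCat.{u} A) n).obj M).obj N ≅ (cx P M).homology n :=
  P.isoLeftDerivedObj (tensorLeft M) n

/-- A short exact sequence given by linear maps. -/
theorem shortExact_mk {K F M : Type u} [AddCommGroup K] [Module A K] [AddCommGroup F] [Module A F]
    [AddCommGroup M] [Module A M] (f : K →ₗ[A] F) (g : F →ₗ[A] M) (hf : Function.Injective f)
    (hg : Function.Surjective g) (hfg : Function.Exact f g) :
    (ShortComplex.mk (X₁ := ModuleCat.of A K) (X₂ := ModuleCat.of A F) (X₃ := ModuleCat.of A M)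
      (ModuleCat.ofHom f) (ModuleCat.ofHom g) (ModuleCat.hom_ext hfg.linearMap_comp_eq_zero)).ShortExact :=
  { exact := (ShortComplex.ShortExact.moduleCat_exact_iff_function_exact _).mpr hfg
    mono_f := (ModuleCat.mono_iff_injective _).mpr hf
    epi_g := (ModuleCat.epi_iff_surjective _).mpr hg }

section
variable {K F M : Type u} [AddCommGroup K] [Module A K] [AddCommGroup F] [Module A F]
  [AddCommGroup M] [Module A M] [Module.Flat A F] (f : K →ₗ[A] F) (g : F →ₗ[A] M)
  (N : Type u) [AddCommGroup N] [Module A N]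

/-- `Tor_1(M, N) = ker (K ⊗ N → F ⊗ N)` for `0 → K → F → M → 0` exact, `F` flat. -/
noncomputable def torOneEquivKer (hf : Function.Injective f) (hg : Function.Surjective g)
    (hfg : Function.Exact f g) : DRing.Tor A 1 M N ≃ₗ[A] ker (f.rTensor N) :=
  (torIso (projectiveResolution (ModuleCat.of A N)) (ModuleCat.of A M) 1 ≪≫
    oneIso (projectiveResolution (ModuleCat.of A N)) (shortExact_mk f g hf hg hfg)).toLinearEquiv

/-- `Tor_{n+2}(M, N) = Tor_{n+1}(K, N)`. -/
noncomputable def torSuccEquiv (hf : Function.Injective f) (hg : Function.Surjective g)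
    (hfg : Function.Exact f g) (n : ℕ) : DRing.Tor A (n + 2) M N ≃ₗ[A] DRing.Tor A (n + 1) K N :=
  (torIso (projectiveResolution (ModuleCat.of A N)) (ModuleCat.of A M) (n + 2) ≪≫
    shiftIso (projectiveResolution (ModuleCat.of A N)) (shortExact_mk f g hf hg hfg) n ≪≫
      (torIso (projectiveResolution (ModuleCat.of A N)) (ModuleCat.of A K) (n + 1)).symm).toLinearEquiv

end

/-- `Tor_0(M, N) = M ⊗ N`. -/
noncomputable def torZeroEquiv (M N : Type u) [AddCommGroup M] [Module A M] [AddCommGroup N] [Module A N] :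
    DRing.Tor A 0 M N ≃ₗ[A] TensorProduct A M N :=
  (torIso (projectiveResolution (ModuleCat.of A N)) (ModuleCat.of A M) 0 ≪≫
    h0Iso (projectiveResolution (ModuleCat.of A N)) (ModuleCat.of A M)).toLinearEquiv

theorem subsingleton_tor_of_flat (M N : Type u) [AddCommGroup M] [Module A M] [Module.Flat A M]
    [AddCommGroup N] [Module A N] (n : ℕ) : Subsingleton (DRing.Tor A (n + 1) M N) :=
  haveI : Module.Flat A (ModuleCat.of A M) := ‹Module.Flat A M›
  ModuleCat.subsingleton_of_isZero (((HomologicalComplex.exactAt_iff_isZero_homology _ _).mp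
    (exactAt_succ_of_flat (projectiveResolution (ModuleCat.of A N)) (ModuleCat.of A M) n)).of_iso
      (torIso (projectiveResolution (ModuleCat.of A N)) (ModuleCat.of A M) (n + 1)))

end Groth.Agent.TorLib
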