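import Groth.Agent.TorLib.Basic

/-! `Tor_n (M, N) ≅ Tor_n (N, M)`. -/

set_option autoImplicit false
universe u
open TensorProduct LinearMap Function

namespace Groth.Agent.TorLib

variable {A : Type u} [CommRing A]

section corner
variable {K F M L G N : Type u} [AddCommGroup K] [Module A K] [AddCommGroup F] [Module A F]
  [AddCommGroup M] [Module A M] [AddCommGroup L] [Module A L] [AddCommGroup G] [Module A G]
  [AddCommGroup N] [Module A N]
variable (f : K →ₗ[A] F) (i : L →ₗ[A] G) (q : G →ₗ[A] N)

/-- the corner subquotient of `F ⊗ G` -/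
abbrev Corner : Type u :=
  ↥(range (f.rTensor G) ⊓ range (i.lTensor F)) ⧸
    Submodule.comap (range (f.rTensor G) ⊓ range (i.lTensor F)).subtype (range (TensorProduct.map f i))

/-- `ker (f ⊗ N)` is the corner subquotient -/
theorem nonempty_corner_equiv [Module.Flat A G] (hf : Injective f) (hq : Surjective q)
    (hiq : Exact i q) : Nonempty (Corner f i ≃ₗ[A] ker (f.rTensor N)) := by
  let P := range (f.rTensor G) ⊓ range (i.lTensor F)
  have hφ : Injective (f.rTensor G) := Module.Flat.rTensor_preserves_injective_linearMap f hf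
  let e : K ⊗[A] G ≃ₗ[A] range (f.rTensor G) := LinearEquiv.ofInjective _ hφ
  have hcomm : ∀ z : K ⊗[A] G, f.rTensor N (q.lTensor K z) = q.lTensor F (f.rTensor G z) := fun z => by
    rw [← LinearMap.comp_apply, rTensor_comp_lTensor, ← lTensor_comp_rTensor, LinearMap.comp_apply]
  have hex : ∀ z : F ⊗[A] G, q.lTensor F z = 0 ↔ z ∈ range (i.lTensor F) := fun z =>
    lTensor_exact F hiq hq z
  let ψ : P →ₗ[A] ker (f.rTensor N) :=
    (q.lTensor K ∘ₗ e.symm.toLinearMap ∘ₗ Submodule.inclusion inf_le_left).codRestrict _ fun p => by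
      rw [mem_ker, LinearMap.comp_apply, hcomm, hex]
      have : f.rTensor G (e.symm (Submodule.inclusion inf_le_left p)) = p.1 :=
        congrArg Subtype.val (e.apply_symm_apply _)
      exact this.symm ▸ p.2.2
  have hψ : Surjective ψ := by
    intro w
    obtain ⟨z, hz⟩ := lTensor_surjective K hq w.1
    refine ⟨⟨f.rTensor G z, ⟨z, rfl⟩, (hex _).1 (by rw [← hcomm, hz]; exact w.2)⟩, Subtype.ext ?_⟩
    refine Eq.trans (congrArg (q.lTensor K) ?_) hz
    exact e.symm_apply_eq.2 (Subtype.ext rfl)
  have hker : Submodule.comap P.subtype (range (TensorProduct.map f i)) = ker ψ := by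
    ext p
    obtain ⟨z, hz⟩ := p.2.1
    have hez : e.symm (Submodule.inclusion inf_le_left p) = z :=
      e.symm_apply_eq.2 (Subtype.ext hz.symm)
    have hmap : TensorProduct.map f i = f.rTensor G ∘ₗ i.lTensor K := by
      rw [rTensor_comp_lTensor]
    rw [Submodule.mem_comap, mem_ker]
    constructor
    · rintro ⟨v, hv⟩
      refine Subtype.ext ?_
      change q.lTensor K (e.symm _) = 0
      rw [hez]
      have : z = i.lTensor K v := hφ (by rw [hz, ← LinearMap.comp_apply, ← hmap, hv]; rfl)
      exact (lTensor_exact K hiq hq z).2 ⟨v, this.symm⟩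
    · intro h
      have h' : q.lTensor K z = 0 := by
        rw [← hez]; exact congrArg Subtype.val h
      obtain ⟨v, hv⟩ := (lTensor_exact K hiq hq z).1 h'
      exact ⟨v, by rw [hmap, LinearMap.comp_apply, hv, hz]; rfl⟩
  exact ⟨Submodule.quotEquivOfEq _ _ hker ≪≫ₗ ψ.quotKerEquivOfSurjective hψ⟩

theorem nonempty_corner_symm : Nonempty (Corner f i ≃ₗ[A] Corner i f) := by
  let c : F ⊗[A] G ≃ₗ[A] G ⊗[A] F := TensorProduct.comm A F G
  have h1 : Submodule.map c.toLinearMap (range (f.rTensor G)) = range (f.lTensor G) := by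
    rw [← range_comp, show c.toLinearMap ∘ₗ f.rTensor G =
      f.lTensor G ∘ₗ (TensorProduct.comm A K G).toLinearMap by ext; rfl,
      range_comp, LinearEquiv.range, Submodule.map_top]
  have h2 : Submodule.map c.toLinearMap (range (i.lTensor F)) = range (i.rTensor F) := by
    rw [← range_comp, show c.toLinearMap ∘ₗ i.lTensor F =
      i.rTensor F ∘ₗ (TensorProduct.comm A F L).toLinearMap by ext; rfl,
      range_comp, LinearEquiv.range, Submodule.map_top]
  have h3 : Submodule.map c.toLinearMap (range (TensorProduct.map f i)) = range (TensorProduct.map i f) := by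
    rw [← range_comp, show c.toLinearMap ∘ₗ TensorProduct.map f i =
      TensorProduct.map i f ∘ₗ (TensorProduct.comm A K L).toLinearMap by ext; rfl,
      range_comp, LinearEquiv.range, Submodule.map_top]
  let P := range (f.rTensor G) ⊓ range (i.lTensor F)
  let P' := range (i.rTensor F) ⊓ range (f.lTensor G)
  have hP : Submodule.map c.toLinearMap P = P' := by
    rw [Submodule.map_inf _ c.injective, h1, h2, inf_comm]
  let eP : P ≃ₗ[A] P' := (c.submoduleMap P).trans (LinearEquiv.ofEq _ _ hP)
  refine ⟨Submodule.Quotient.equiv _ _ eP ?_⟩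
  ext y
  obtain ⟨x, rfl⟩ := eP.surjective y
  simp only [Submodule.mem_map, Submodule.mem_comap]
  have hx : ((eP x : P') : G ⊗[A] F) = c (x : F ⊗[A] G) := rfl
  constructor
  · rintro ⟨x', hx', hxx⟩
    obtain rfl : x' = x := eP.injective hxx
    change ((eP x' : P') : G ⊗[A] F) ∈ range (TensorProduct.map i f)
    rw [hx, ← h3]
    exact Submodule.mem_map_of_mem hx'
  · intro h
    refine ⟨x, ?_, rfl⟩
    change ((eP x : P') : G ⊗[A] F) ∈ range (TensorProduct.map i f) at h
    rw [hx, ← h3] at h
    obtain ⟨v, hv, hvx⟩ := h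
    have hv' : v = ((x : P) : F ⊗[A] G) := c.injective hvx
    rw [hv'] at hv
    exact hv

end corner

/-- a flat presentation -/
theorem exists_presentation (M : Type u) [AddCommGroup M] [Module A M] :
    ∃ g : (M →₀ A) →ₗ[A] M, Surjective g :=
  ⟨Finsupp.linearCombination A id, Finsupp.linearCombination_id_surjective A M⟩

section pres
variable {K F M L G N : Type u} [AddCommGroup K] [Module A K] [AddCommGroup F] [Module A F]
  [AddCommGroup M] [Module A M] [AddCommGroup L] [Module A L] [AddCommGroup G] [Module A G]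
  [AddCommGroup N] [Module A N] [Module.Flat A F] [Module.Flat A G]
  {f : K →ₗ[A] F} {g : F →ₗ[A] M} {i : L →ₗ[A] G} {q : G →ₗ[A] N}

theorem tor_one_symm_of_pres (hf : Injective f) (hg : Surjective g) (hfg : Exact f g)
    (hi : Injective i) (hq : Surjective q) (hiq : Exact i q) :
    Nonempty (DRing.Tor A 1 M N ≃ₗ[A] DRing.Tor A 1 N M) := by
  obtain ⟨c1⟩ := nonempty_corner_equiv f i q hf hq hiq
  obtain ⟨c2⟩ := nonempty_corner_equiv i f g hi hg hfg
  obtain ⟨c⟩ := nonempty_corner_symm f i
  exact ⟨(torOneEquivKer f g N hf hg hfg).trans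
    ((c1.symm.trans (c.trans c2)).trans (torOneEquivKer i q M hi hq hiq).symm)⟩

theorem tor_one_shift (hf : Injective f) (hg : Surjective g) (hfg : Exact f g)
    (hi : Injective i) (hq : Surjective q) (hiq : Exact i q) :
    Nonempty (DRing.Tor A 1 M L ≃ₗ[A] DRing.Tor A 1 N K) := by
  refine ⟨(torOneEquivKer f g L hf hg hfg).trans
    (?_ ≪≫ₗ (torOneEquivKer i q K hi hq hiq).symm)⟩
  let c := TensorProduct.comm A K L
  have h1 : ker (f.rTensor L) = ker (TensorProduct.map f i) := by
    rw [← lTensor_comp_rTensor, ker_comp_of_ker_eq_bot]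
    exact ker_eq_bot.2 (Module.Flat.lTensor_preserves_injective_linearMap i hi)
  have h2 : ker (i.rTensor K) = ker (TensorProduct.map i f) := by
    rw [← lTensor_comp_rTensor, ker_comp_of_ker_eq_bot]
    exact ker_eq_bot.2 (Module.Flat.lTensor_preserves_injective_linearMap f hf)
  refine LinearEquiv.ofSubmodules c _ _ ?_
  rw [h1, h2]
  ext y
  obtain ⟨x, rfl⟩ := c.surjective y
  rw [Submodule.mem_map_equiv, LinearEquiv.symm_apply_apply, mem_ker, mem_ker]
  have : TensorProduct.map i f (c x) = TensorProduct.comm A F G (TensorProduct.map f i x) :=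
    (TensorProduct.map_comm i f x)
  rw [this, LinearEquiv.map_eq_zero_iff]

end pres

theorem tor_one_symm (M N : Type u) [AddCommGroup M] [Module A M] [AddCommGroup N] [Module A N] :
    Nonempty (DRing.Tor A 1 M N ≃ₗ[A] DRing.Tor A 1 N M) := by
  obtain ⟨g, hg⟩ := exists_presentation (A := A) M
  obtain ⟨q, hq⟩ := exists_presentation (A := A) N
  exact tor_one_symm_of_pres (K := ↥(LinearMap.ker g)) (L := ↥(LinearMap.ker q))
    (f := (LinearMap.ker g).subtype) (i := (LinearMap.ker q).subtype) (g := g) (q := q) Subtype.val_injective hg (exact_subtype_ker_map g)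
    Subtype.val_injective hq (exact_subtype_ker_map q)

theorem tor_symm : ∀ (n : ℕ) (M N : Type u) [AddCommGroup M] [Module A M] [AddCommGroup N] [Module A N],
    Nonempty (DRing.Tor A n M N ≃ₗ[A] DRing.Tor A n N M) := by
  intro n
  induction n using Nat.strong_induction_on with
  | _ n ih =>
    intro M N _ _ _ _
    match n with
    | 0 => exact ⟨(torZeroEquiv M N).trans ((TensorProduct.comm A M N).trans (torZeroEquiv N M).symm)⟩
    | 1 => exact tor_one_symm M N
    | 2 =>
      obtain ⟨g, hg⟩ := exists_presentation (A := A) M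
      obtain ⟨q, hq⟩ := exists_presentation (A := A) N
      obtain ⟨e1⟩ := tor_one_symm (A := A) (↥(LinearMap.ker g)) N
      obtain ⟨e2⟩ := tor_one_symm (A := A) (↥(LinearMap.ker q)) M
      obtain ⟨e⟩ := tor_one_shift (K := ↥(LinearMap.ker g)) (L := ↥(LinearMap.ker q))
        (f := (LinearMap.ker g).subtype) (i := (LinearMap.ker q).subtype) (g := g) (q := q) Subtype.val_injective hg (exact_subtype_ker_map g)
        Subtype.val_injective hq (exact_subtype_ker_map q)
      exact ⟨(torSuccEquiv (ker g).subtype g N Subtype.val_injective hg (exact_subtype_ker_map g) 0).trans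
        (e1.trans (e.symm.trans (e2.symm.trans
          (torSuccEquiv (ker q).subtype q M Subtype.val_injective hq (exact_subtype_ker_map q) 0).symm)))⟩
    | k + 3 =>
      obtain ⟨g, hg⟩ := exists_presentation (A := A) M
      obtain ⟨q, hq⟩ := exists_presentation (A := A) N
      obtain ⟨e1⟩ := ih (k + 2) (by omega) (↥(LinearMap.ker g)) N
      obtain ⟨e2⟩ := ih (k + 2) (by omega) (↥(LinearMap.ker q)) M
      obtain ⟨e3⟩ := ih (k + 1) (by omega) (↥(LinearMap.ker q)) (↥(LinearMap.ker g))
      exact ⟨(torSuccEquiv (ker g).subtype g N Subtype.val_injective hg (exact_subtype_ker_map g) (k + 1)).trans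
        (e1.trans ((torSuccEquiv (ker q).subtype q (ker g) Subtype.val_injective hq (exact_subtype_ker_map q) k).trans
          (e3.trans ((torSuccEquiv (ker g).subtype g (ker q) Subtype.val_injective hg (exact_subtype_ker_map g) k).symm.trans
            (e2.symm.trans (torSuccEquiv (ker q).subtype q M Subtype.val_injective hq
              (exact_subtype_ker_map q) (k + 1)).symm)))))⟩

end Groth.Agent.TorLib
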