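import Groth.Agent.TorLib.Balance
import Groth.Agent.FlatCx.BC
import Mathlib.Algebra.Category.ModuleCat.ChangeOfRings
import Mathlib.Algebra.Category.ModuleCat.Projective
import Mathlib.Algebra.Homology.ShortComplex.PreservesHomology
import Mathlib.Algebra.Homology.QuasiIso
import Mathlib.Algebra.Homology.ShortComplex.HomologicalComplex

/-! Change of rings for `Tor`. -/

open CategoryTheory CategoryTheory.Limits MonoidalCategory

universe u

namespace Groth.Agent.TorLib

variable {A : Type u} [CommRing A] (B : Type u) [CommRing B] [Algebra A B]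

/-- Extension of scalars. -/
noncomputable abbrev extF : ModuleCat.{u} A ⥤ ModuleCat.{u} B :=
  ModuleCat.extendScalars.{u, u, u} (algebraMap A B)

/-- Restriction of scalars. -/
noncomputable abbrev resF : ModuleCat.{u} B ⥤ ModuleCat.{u} A :=
  ModuleCat.restrictScalars.{u} (algebraMap A B)

section resolution

variable {N : ModuleCat.{u} A} (P : ProjectiveResolution N)

theorem exactAt_ext (h : ∀ n : ℕ, (cx P (ModuleCat.of A B)).ExactAt (n + 1)) (n : ℕ) :
    (((extF B).mapHomologicalComplex (ComplexShape.down ℕ)).obj P.complex).ExactAt (n + 1) := by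
  have h' := h n
  rw [HomologicalComplex.exactAt_iff' _ (n + 2) (n + 1) n (by simp) (by simp),
    ShortComplex.ShortExact.moduleCat_exact_iff_function_exact] at h' ⊢
  exact (Function.Exact.iff_of_ladder_addEquiv (e₁ := (FlatCx.eB B (P.complex.X (n + 2))).toAddEquiv)
    (e₂ := (FlatCx.eB B (P.complex.X (n + 1))).toAddEquiv) (e₃ := (FlatCx.eB B (P.complex.X n)).toAddEquiv)
    (f₁₂ := ((extF B).map (P.complex.d (n + 2) (n + 1))).hom.toAddMonoidHom)
    (f₂₃ := ((extF B).map (P.complex.d (n + 1) n)).hom.toAddMonoidHom)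
    (g₁₂ := ((P.complex.d (n + 2) (n + 1)).hom.lTensor B).toAddMonoidHom)
    (g₂₃ := ((P.complex.d (n + 1) n).hom.lTensor B).toAddMonoidHom)
    (AddMonoidHom.ext fun z => (FlatCx.eB_naturality B (P.complex.d (n + 2) (n + 1)) z).symm)
    (AddMonoidHom.ext fun z => (FlatCx.eB_naturality B (P.complex.d (n + 1) n) z).symm)).1 h'

/-- The extended augmentation. -/
noncomputable def extπ : ((extF B).mapHomologicalComplex (ComplexShape.down ℕ)).obj P.complex ⟶
    (ChainComplex.single₀ (ModuleCat.{u} B)).obj ((extF B).obj N) :=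
  ((extF B).mapHomologicalComplex _).map P.π ≫
    ((HomologicalComplex.singleMapHomologicalComplex (extF B) (ComplexShape.down ℕ) 0).app N).hom

theorem quasiIsoAt_zero_extπ : QuasiIsoAt (extπ B P) 0 := by
  rw [ChainComplex.quasiIsoAt₀_iff, ShortComplex.quasiIso_iff_of_zeros' _ (by simp <;> rfl) (by simp <;> rfl) (by simp <;> rfl)]
  have hf : (extπ B P).f 0 = (extF B).map (P.π.f 0) := by
    simp [extπ]
    rfl
  let c := CokernelCofork.mapIsColimit _ P.isColimitCokernelCofork (extF B)
  refine ⟨?_, ?_⟩
  · refine ShortComplex.exact_of_g_is_cokernel _ (IsColimit.ofIsoColimit c (Cofork.ext (Iso.refl _) ?_))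
    exact (Category.comp_id _).trans hf.symm
  · show Epi ((extπ B P).f 0)
    rw [hf]
    exact epi_of_isColimit_cofork c

/-- The base change of a projective resolution which stays exact. -/
noncomputable def extResolution (h : ∀ n : ℕ, (cx P (ModuleCat.of A B)).ExactAt (n + 1)) :
    ProjectiveResolution ((extF B).obj N) where
  complex := ((extF B).mapHomologicalComplex _).obj P.complex
  projective n := (ModuleCat.extendRestrictScalarsAdj (algebraMap A B)).map_projective _ (P.projective n)
  π := extπ B P
  quasiIso := ⟨fun i => by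
    cases i with
    | zero => exact quasiIsoAt_zero_extπ B P
    | succ i =>
      rw [quasiIsoAt_iff_exactAt' _ _ (ChainComplex.exactAt_succ_single_obj ..)]
      exact exactAt_ext B P h i⟩

end resolution

variable (M : Type u) [AddCommGroup M] [Module A M] [Module B M] [IsScalarTower A B M]

/-- `M ⊗_A X = M ⊗_B (B ⊗_A X)`. -/
noncomputable def changeAux (X : ModuleCat.{u} A) :
    TensorProduct A M X ≃ₗ[B] TensorProduct B M ((extF B).obj X) :=
  (TensorProduct.AlgebraTensorModule.cancelBaseChange A B B M X).symm ≪≫ₗ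
    TensorProduct.congr (LinearEquiv.refl B M) (FlatCx.eB B X).symm

theorem changeAux_tmul (X : ModuleCat.{u} A) (m : M) (x : X) :
    changeAux B M X (m ⊗ₜ x) = m ⊗ₜ (FlatCx.eB B X).symm ((1 : B) ⊗ₜ x) := by
  simp [changeAux]

/-- The component of the change of rings isomorphism. -/
noncomputable def changeApp (X : ModuleCat.{u} A) :
    ModuleCat.of A M ⊗ X ≅ (resF B).obj (ModuleCat.of B M ⊗ (extF B).obj X) :=
  letI : Module A (TensorProduct B M ((extF B).obj X)) := Module.compHom _ (algebraMap A B)
  LinearEquiv.toModuleIso (R := A) (X₁ := TensorProduct A M X) (X₂ := TensorProduct B M ((extF B).obj X))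
    { (changeAux B M X).toAddEquiv with
      map_smul' := fun a x => by
        show changeAux B M X (a • x) = algebraMap A B a • changeAux B M X x
        rw [← algebraMap_smul B a x, map_smul] }

/-- `M ⊗_A - = (M ⊗_B -) ∘ (B ⊗_A -)`. -/
noncomputable def changeIso :
    tensorLeft (ModuleCat.of A M) ≅ extF B ⋙ tensorLeft (ModuleCat.of B M) ⋙ resF B :=
  NatIso.ofComponents (fun X => changeApp B M X) (fun {X Y} g => by
    ext x : 2
    show changeAux B M Y (g.hom.lTensor M x) = LinearMap.lTensor M ((extF B).map g).hom (changeAux B M X x)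
    refine TensorProduct.induction_on (motive := fun x =>
      changeAux B M Y (g.hom.lTensor M x) = LinearMap.lTensor M ((extF B).map g).hom (changeAux B M X x))
      x ?_ ?_ ?_
    · simp only [map_zero]
    · intro m y
      rw [LinearMap.lTensor_tmul, changeAux_tmul, changeAux_tmul, LinearMap.lTensor_tmul]
      congr 1
    · intro a b ha hb
      simp only [map_add, ha, hb])

instance preservesHomology_resF : (resF (A := A) B).PreservesHomology := inferInstance

variable {N : ModuleCat.{u} A} (P : ProjectiveResolution N)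

/-- `Tor^A (M, N) = Tor^B (M, B ⊗ N)`. -/
noncomputable def changeTorIso (h : ∀ n : ℕ, (cx P (ModuleCat.of A B)).ExactAt (n + 1)) (n : ℕ) :
    ((CategoryTheory.Tor (ModuleCat.{u} A) n).obj (ModuleCat.of A M)).obj N ≅
      (resF B).obj (((CategoryTheory.Tor (ModuleCat.{u} B) n).obj (ModuleCat.of B M)).obj ((extF B).obj N)) :=
  torIso P (ModuleCat.of A M) n ≪≫
    (HomologicalComplex.homologyFunctor _ _ n).mapIso
      ((NatIso.mapHomologicalComplex (changeIso B M) (ComplexShape.down ℕ)).app P.complex) ≪≫
    ((cx (extResolution B P h) (ModuleCat.of B M)).sc n).mapHomologyIso (resF B) ≪≫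
    (resF B).mapIso (torIso (extResolution B P h) (ModuleCat.of B M) n).symm

theorem exists_semilinear_bijective (Q : Type u) [AddCommGroup Q] [Module A Q]
    (hQ : ∀ n : ℕ, Subsingleton (DRing.Tor A (n + 1) B Q)) (Q' : Type u) [AddCommGroup Q'] [Module B Q']
    (e : TensorProduct A B Q ≃ₗ[B] Q') (n : ℕ) :
    ∃ φ : DRing.Tor A n M Q →ₛₗ[algebraMap A B] DRing.Tor B n M Q', Function.Bijective φ := by
  let P := projectiveResolution (ModuleCat.of A Q)
  have h : ∀ n : ℕ, (cx P (ModuleCat.of A B)).ExactAt (n + 1) := fun n =>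
    (HomologicalComplex.exactAt_iff_isZero_homology _ _).mpr
      ((@ModuleCat.isZero_of_subsingleton A _ _ (hQ n)).of_iso (torIso P (ModuleCat.of A B) (n + 1)).symm)
  let θ := changeTorIso B M P h n
  let t := ((CategoryTheory.Tor (ModuleCat.{u} B) n).obj (ModuleCat.of B M)).mapIso
    ((FlatCx.eB B (ModuleCat.of A Q)).trans e).toModuleIso
  exact ⟨{ toFun := fun x => t.toLinearEquiv (θ.hom.hom x)
           map_add' := fun x y => (congrArg t.toLinearEquiv (θ.hom.hom.map_add x y)).trans (map_add _ _ _)
           map_smul' := fun a x =>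
             (congrArg t.toLinearEquiv (θ.hom.hom.map_smul a x)).trans (t.toLinearEquiv.map_smul _ _) },
    t.toLinearEquiv.bijective.comp θ.toLinearEquiv.bijective⟩

end Groth.Agent.TorLib
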