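import Groth.Agent.TorLib.ShiftNat

/-! `Tor` is balanced, naturally in both variables. -/

open CategoryTheory CategoryTheory.Limits MonoidalCategory

universe u

namespace Groth.Agent.TorLib

variable (A : Type u) [CommRing A]

section cov

variable {A} {N N' : ModuleCat.{u} A} (P : ProjectiveResolution N) (Q : ProjectiveResolution N')

/-- Dimension shifting along the free cover. -/
noncomputable def shiftCov (M : ModuleCat.{u} A) (n : ℕ) :
    (cx P M).homology (n + 2) ≅ (cx P ((covK A).obj M)).homology (n + 1) :=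
  shiftIso P (covSeq_shortExact M) n

theorem shiftCov_nat {M M' : ModuleCat.{u} A} (g : M ⟶ M') (n : ℕ) :
    HomologicalComplex.homologyMap (cxMap P g) (n + 2) ≫ (shiftCov P M' n).hom
      = (shiftCov P M n).hom ≫ HomologicalComplex.homologyMap (cxMap P ((covK A).map g)) (n + 1) :=
  shiftIso_nat (covSeq_shortExact M) (covSeq_shortExact M') (covSeqMap g) n

theorem shiftCov_nat_left (M : ModuleCat.{u} A) (φ : P.complex ⟶ Q.complex) (n : ℕ) :
    HomologicalComplex.homologyMap (cxLeft P Q M φ) (n + 2) ≫ (shiftCov Q M n).hom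
      = (shiftCov P M n).hom ≫
        HomologicalComplex.homologyMap (cxLeft P Q ((covK A).obj M) φ) (n + 1) :=
  shiftIso_nat_left (covSeq_shortExact M) φ n

/-- `H_1 (M ⊗ P) ⟶ K M ⊗ N`. -/
noncomputable def oneCovHom (M : ModuleCat.{u} A) : (cx P M).homology 1 ⟶ (covK A).obj M ⊗ N :=
  oneHom (covSeq_shortExact M)

theorem oneCovHom_nat {M M' : ModuleCat.{u} A} (g : M ⟶ M') :
    HomologicalComplex.homologyMap (cxMap P g) 1 ≫ oneCovHom P M'
      = oneCovHom P M ≫ ((covK A).map g ▷ N) :=
  oneHom_nat (covSeq_shortExact M) (covSeq_shortExact M') (covSeqMap g)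

theorem oneCovHom_nat_left (M : ModuleCat.{u} A) (f : N ⟶ N') (φ : P.complex ⟶ Q.complex)
    (comm : φ.f 0 ≫ Q.π.f 0 = P.π.f 0 ≫ f) :
    HomologicalComplex.homologyMap (cxLeft P Q M φ) 1 ≫ oneCovHom Q M
      = oneCovHom P M ≫ ((covK A).obj M ◁ f) :=
  oneHom_nat_left (covSeq_shortExact M) f φ comm

end cov

/-- `Tor_0` is the tensor product. -/
noncomputable def torZero : CategoryTheory.Tor (ModuleCat.{u} A) 0 ≅ tensoringLeft (ModuleCat.{u} A) :=
  NatIso.ofComponents (fun M => NatIso.ofComponents
      (fun N => torIso (projectiveResolution N) M 0 ≪≫ h0Iso (projectiveResolution N) M)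
      (fun {N N'} f => by
        show _ ≫ (_ ≫ _) = (_ ≫ _) ≫ M ◁ f
        rw [← Category.assoc, torIso_nat_left M f (liftMap f) (liftMap_comm f), Category.assoc,
          Category.assoc, h0Iso_naturality_left _ _ M f (liftMap f) (liftMap_comm f)]))
    (fun {M M'} g => by
      ext N : 2
      show _ ≫ (_ ≫ _) = (_ ≫ _) ≫ g ▷ N
      rw [← Category.assoc, torIso_nat, Category.assoc, Category.assoc, h0Iso_naturality])

/-- `Tor_{n+2} (M, N) = Tor_{n+1} (K M, N)`. -/
noncomputable def torShift (n : ℕ) :
    CategoryTheory.Tor (ModuleCat.{u} A) (n + 2) ≅ covK A ⋙ CategoryTheory.Tor (ModuleCat.{u} A) (n + 1) :=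
  NatIso.ofComponents (fun M => NatIso.ofComponents
      (fun N => torIso (projectiveResolution N) M (n + 2) ≪≫
        shiftCov (projectiveResolution N) M n ≪≫
        (torIso (projectiveResolution N) ((covK A).obj M) (n + 1)).symm)
      (fun {N N'} f => by
        rw [← cancel_mono (torIso (projectiveResolution N') ((covK A).obj M) (n + 1)).hom]
        show (_ ≫ _ ≫ _ ≫ _) ≫ _ = ((_ ≫ _ ≫ _) ≫
          ((CategoryTheory.Tor (ModuleCat.{u} A) (n + 1)).obj ((covK A).obj M)).map f) ≫ _
        simp only [Category.assoc, Iso.symm_hom, Iso.inv_hom_id, Category.comp_id]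
        rw [← Category.assoc, torIso_nat_left M f (liftMap f) (liftMap_comm f), Category.assoc,
          torIso_nat_left _ f (liftMap f) (liftMap_comm f), Iso.inv_hom_id_assoc]
        rw [shiftCov_nat_left]))
    (fun {M M'} g => by
      ext N : 2
      rw [← cancel_mono (torIso (projectiveResolution N) ((covK A).obj M') (n + 1)).hom]
      show (_ ≫ _ ≫ _ ≫ _) ≫ _ = ((_ ≫ _ ≫ _) ≫
        ((CategoryTheory.Tor (ModuleCat.{u} A) (n + 1)).map ((covK A).map g)).app N) ≫ _
      simp only [Category.assoc, Iso.symm_hom, Iso.inv_hom_id, Category.comp_id]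
      rw [← Category.assoc, torIso_nat, Category.assoc, torIso_nat, Iso.inv_hom_id_assoc]
      rw [shiftCov_nat])

/-- `ker (K M ⊗ N → F M ⊗ N)`. -/
noncomputable abbrev kerObj (M N : ModuleCat.{u} A) : Submodule A ↑((covK A).obj M ⊗ N) :=
  LinearMap.ker ((covι A).app M ▷ N).hom

theorem kerObj_map_right (M : ModuleCat.{u} A) {N N' : ModuleCat.{u} A} (h : N ⟶ N') :
    ∀ x ∈ kerObj A M N, ((covK A).obj M ◁ h).hom x ∈ kerObj A M N' := by
  intro x hx
  have := ConcreteCategory.congr_hom (whisker_exchange ((covι A).app M) h) x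
  simp only [LinearMap.mem_ker] at hx ⊢
  exact this.trans ((congrArg (((freeCov A).obj M ◁ h).hom) hx).trans (map_zero _))

theorem kerObj_map_left {M M' : ModuleCat.{u} A} (g : M ⟶ M') (N : ModuleCat.{u} A) :
    ∀ x ∈ kerObj A M N, ((covK A).map g ▷ N).hom x ∈ kerObj A M' N := by
  intro x hx
  have e : (covK A).map g ▷ N ≫ (covι A).app M' ▷ N
      = (covι A).app M ▷ N ≫ (freeCov A).map g ▷ N := by
    rw [← comp_whiskerRight, ← comp_whiskerRight, (covι A).naturality g]
  have := ConcreteCategory.congr_hom e x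
  simp only [LinearMap.mem_ker] at hx ⊢
  exact this.trans ((congrArg (((freeCov A).map g ▷ N).hom) hx).trans (map_zero _))

/-- The bifunctor `(M, N) ↦ ker (K M ⊗ N → F M ⊗ N)`. -/
noncomputable def kerFun : ModuleCat.{u} A ⥤ ModuleCat.{u} A ⥤ ModuleCat.{u} A where
  obj M :=
    { obj := fun N => ModuleCat.of A (kerObj A M N)
      map := fun h => ModuleCat.ofHom (((covK A).obj M ◁ h).hom.restrict (kerObj_map_right A M h))
      map_id := fun N => by
        ext x : 2
        exact Subtype.ext (ConcreteCategory.congr_hom (whiskerLeft_id ((covK A).obj M) N) x.1)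
      map_comp := fun h h' => by
        ext x : 2
        exact Subtype.ext (ConcreteCategory.congr_hom (whiskerLeft_comp ((covK A).obj M) h h') x.1) }
  map {M M'} g :=
    { app := fun N => ModuleCat.ofHom (((covK A).map g ▷ N).hom.restrict (kerObj_map_left A g N))
      naturality := fun N N' h => by
        ext x : 2
        exact Subtype.ext (ConcreteCategory.congr_hom (whisker_exchange ((covK A).map g) h) x.1) }
  map_id M := by
    ext N x : 4
    refine Subtype.ext ?_
    show ((covK A).map (𝟙 M) ▷ N).hom x.1 = x.1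
    rw [CategoryTheory.Functor.map_id, id_whiskerRight]
    rfl
  map_comp g g' := by
    ext N x : 4
    refine Subtype.ext ?_
    show ((covK A).map (g ≫ g') ▷ N).hom x.1 = _
    rw [Functor.map_comp, comp_whiskerRight]
    rfl

/-- `H_1 (M ⊗ P) = ker (K M ⊗ N → F M ⊗ N)`. -/
noncomputable def oneCov {A : Type u} [CommRing A] {N : ModuleCat.{u} A} (P : ProjectiveResolution N)
    (M : ModuleCat.{u} A) : (cx P M).homology 1 ≅ ModuleCat.of A (kerObj A M N) :=
  oneIso P (covSeq_shortExact M)

theorem oneCov_hom {A : Type u} [CommRing A] {N : ModuleCat.{u} A} (P : ProjectiveResolution N)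
    (M : ModuleCat.{u} A) :
    (oneCov P M).hom ≫ ModuleCat.ofHom (kerObj A M N).subtype = oneCovHom P M :=
  oneIso_hom (P := P) (covSeq_shortExact M)

/-- `Tor_1 (M, N) = ker (K M ⊗ N → F M ⊗ N)`. -/
noncomputable def torOne : CategoryTheory.Tor (ModuleCat.{u} A) 1 ≅ kerFun A :=
  NatIso.ofComponents (fun M => NatIso.ofComponents
      (fun N => torIso (projectiveResolution N) M 1 ≪≫ oneCov (projectiveResolution N) M)
      (fun {N N'} f => by
        haveI : Mono (ModuleCat.ofHom (kerObj A M N').subtype) :=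
          (ModuleCat.mono_iff_injective _).mpr Subtype.val_injective
        refine (cancel_mono (ModuleCat.ofHom (kerObj A M N').subtype)).1 ?_
        show (_ ≫ _ ≫ _) ≫ _ = (torIso (projectiveResolution N) M 1).hom ≫
          ((oneCov (projectiveResolution N) M).hom ≫
          ModuleCat.ofHom (kerObj A M N).subtype) ≫ ((covK A).obj M ◁ f)
        rw [Category.assoc, Category.assoc, oneCov_hom, oneCov_hom, ← Category.assoc,
          torIso_nat_left M f (liftMap f) (liftMap_comm f), Category.assoc,
          oneCovHom_nat_left _ _ M f (liftMap f) (liftMap_comm f)]))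
    (fun {M M'} g => by
      ext N : 2
      haveI : Mono (ModuleCat.ofHom (kerObj A M' N).subtype) :=
        (ModuleCat.mono_iff_injective _).mpr Subtype.val_injective
      refine (cancel_mono (ModuleCat.ofHom (kerObj A M' N).subtype)).1 ?_
      show (_ ≫ _ ≫ _) ≫ _ = (torIso (projectiveResolution N) M 1).hom ≫
        ((oneCov (projectiveResolution N) M).hom ≫
        ModuleCat.ofHom (kerObj A M N).subtype) ≫ ((covK A).map g ▷ N)
      rw [Category.assoc, Category.assoc, oneCov_hom, oneCov_hom, ← Category.assoc, torIso_nat,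
        Category.assoc, oneCovHom_nat])

variable {A}

section swap

/-- The relation defining the snake map between the kernels. -/
def Rel (M N : ModuleCat.{u} A) (w : ↑((covK A).obj M ⊗ N)) (w' : ↑((covK A).obj N ⊗ M)) : Prop :=
  ∃ (z : ↑((covK A).obj M ⊗ (freeCov A).obj N)) (y : ↑((covK A).obj N ⊗ (freeCov A).obj M)),
    ((covK A).obj M ◁ (freeCovπ A).app N).hom z = w ∧ ((covK A).obj N ◁ (freeCovπ A).app M).hom y = w' ∧
      (β_ ((freeCov A).obj M) ((freeCov A).obj N)).hom.hom (((covι A).app M ▷ (freeCov A).obj N).hom z)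
        = ((covι A).app N ▷ (freeCov A).obj M).hom y

variable {M M' N : ModuleCat.{u} A}

theorem Rel.symm {w : ↑((covK A).obj M ⊗ N)} {w' : ↑((covK A).obj N ⊗ M)} (h : Rel M N w w') :
    Rel N M w' w := by
  obtain ⟨z, y, h1, h2, h3⟩ := h
  refine ⟨y, z, h2, h1, ?_⟩
  rw [← h3]
  exact ConcreteCategory.congr_hom
    (SymmetricCategory.symmetry ((freeCov A).obj M) ((freeCov A).obj N)) _

theorem Rel.add {w v : ↑((covK A).obj M ⊗ N)} {w' v' : ↑((covK A).obj N ⊗ M)} (h : Rel M N w w')
    (h' : Rel M N v v') : Rel M N (w + v) (w' + v') := by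
  obtain ⟨z, y, h1, h2, h3⟩ := h
  obtain ⟨z', y', h1', h2', h3'⟩ := h'
  exact ⟨z + z', y + y', by rw [map_add, h1, h1'], by rw [map_add, h2, h2'],
    by rw [map_add, map_add, map_add, h3, h3']⟩

theorem Rel.smul (a : A) {w : ↑((covK A).obj M ⊗ N)} {w' : ↑((covK A).obj N ⊗ M)} (h : Rel M N w w') :
    Rel M N (a • w) (a • w') := by
  obtain ⟨z, y, h1, h2, h3⟩ := h
  exact ⟨a • z, a • y, by rw [map_smul, h1], by rw [map_smul, h2],
    by rw [map_smul, map_smul, map_smul, h3]⟩

theorem exact_cov (M : ModuleCat.{u} A) :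
    Function.Exact ((covι A).app M).hom ((freeCovπ A).app M).hom :=
  (ShortComplex.ShortExact.moduleCat_exact_iff_function_exact _).mp (covSeq_shortExact M).exact

theorem surj_cov (M : ModuleCat.{u} A) : Function.Surjective ((freeCovπ A).app M).hom :=
  (ModuleCat.epi_iff_surjective _).mp (epi_freeCovπ M)

theorem inj_cov (M : ModuleCat.{u} A) : Function.Injective ((covι A).app M).hom :=
  (ModuleCat.mono_iff_injective _).mp (covSeq_shortExact M).mono_f

theorem rel_exists {w : ↑((covK A).obj M ⊗ N)} (hw : w ∈ kerObj A M N) :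
    ∃ w', w' ∈ kerObj A N M ∧ Rel M N w w' := by
  obtain ⟨z, hz⟩ := LinearMap.lTensor_surjective ((covK A).obj M) (surj_cov N) w
  have e1 := ConcreteCategory.congr_hom (whisker_exchange ((covι A).app M) ((freeCovπ A).app N)) z
  have h0 : ((freeCov A).obj M ◁ (freeCovπ A).app N).hom
      (((covι A).app M ▷ (freeCov A).obj N).hom z) = 0 :=
    e1.symm.trans ((congrArg ((covι A).app M ▷ N).hom hz).trans hw)
  obtain ⟨y₀, hy₀⟩ := (lTensor_exact ((freeCov A).obj M) (exact_cov N) (surj_cov N) _).1 h0
  let y := (β_ ((freeCov A).obj M) ((covK A).obj N)).hom.hom y₀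
  have h3 : (β_ ((freeCov A).obj M) ((freeCov A).obj N)).hom.hom
      (((covι A).app M ▷ (freeCov A).obj N).hom z) = ((covι A).app N ▷ (freeCov A).obj M).hom y :=
    (congrArg (β_ ((freeCov A).obj M) ((freeCov A).obj N)).hom.hom hy₀.symm).trans
      (ConcreteCategory.congr_hom (BraidedCategory.braiding_naturality_right ((freeCov A).obj M) ((covι A).app N)) y₀)
  refine ⟨_, ?_, z, y, hz, rfl, h3⟩
  have e2 := ConcreteCategory.congr_hom (whisker_exchange ((covι A).app N) ((freeCovπ A).app M)) y
  rw [LinearMap.mem_ker]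
  refine e2.trans ((congrArg ((freeCov A).obj N ◁ (freeCovπ A).app M).hom h3.symm).trans ?_)
  refine (ConcreteCategory.congr_hom
    (BraidedCategory.braiding_naturality_left ((freeCovπ A).app M) ((freeCov A).obj N)).symm _).trans ?_
  have e3 : (covι A).app M ▷ (freeCov A).obj N ≫ (freeCovπ A).app M ▷ (freeCov A).obj N = 0 := by
    rw [← comp_whiskerRight, show (covι A).app M ≫ (freeCovπ A).app M = 0 from kernel.condition _]
    exact MonoidalPreadditive.zero_whiskerRight
  exact (congrArg (β_ M ((freeCov A).obj N)).hom.hom (ConcreteCategory.congr_hom e3 z)).trans (map_zero _)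

theorem rel_zero {w' : ↑((covK A).obj N ⊗ M)} (h : Rel M N 0 w') : w' = 0 := by
  obtain ⟨z, y, h1, h2, h3⟩ := h
  obtain ⟨v, hv⟩ := (lTensor_exact ((covK A).obj M) (exact_cov N) (surj_cov N) z).1 h1
  let v' := (β_ ((freeCov A).obj M) ((covK A).obj N)).hom.hom (((covι A).app M ▷ (covK A).obj N).hom v)
  have e : ((covι A).app N ▷ (freeCov A).obj M).hom y = ((covι A).app N ▷ (freeCov A).obj M).hom v' :=
    h3.symm.trans ((congrArg (fun t => (β_ ((freeCov A).obj M) ((freeCov A).obj N)).hom.hom
      (((covι A).app M ▷ (freeCov A).obj N).hom t)) hv.symm).trans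
      ((congrArg (β_ ((freeCov A).obj M) ((freeCov A).obj N)).hom.hom
        (ConcreteCategory.congr_hom (whisker_exchange ((covι A).app M) ((covι A).app N)) v)).trans
        (ConcreteCategory.congr_hom
          (BraidedCategory.braiding_naturality_right ((freeCov A).obj M) ((covι A).app N)) _)))
  have hy : y = v' := Module.Flat.rTensor_preserves_injective_linearMap (M := (freeCov A).obj M) _ (inj_cov N) e
  rw [← h2, hy]
  refine (ConcreteCategory.congr_hom
    (BraidedCategory.braiding_naturality_left ((freeCovπ A).app M) ((covK A).obj N)).symm _).trans ?_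
  have e3 : (covι A).app M ▷ (covK A).obj N ≫ (freeCovπ A).app M ▷ (covK A).obj N = 0 := by
    rw [← comp_whiskerRight, show (covι A).app M ≫ (freeCovπ A).app M = 0 from kernel.condition _]
    exact MonoidalPreadditive.zero_whiskerRight
  exact (congrArg (β_ M ((covK A).obj N)).hom.hom (ConcreteCategory.congr_hom e3 v)).trans (map_zero _)

theorem rel_unique {w : ↑((covK A).obj M ⊗ N)} {w' v' : ↑((covK A).obj N ⊗ M)} (h : Rel M N w w')
    (h' : Rel M N w v') : w' = v' := by
  refine sub_eq_zero.1 (rel_zero (M := M) (N := N) ?_)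
  have := h.add (h'.smul (-1))
  rwa [neg_one_smul, neg_one_smul, add_neg_cancel, ← sub_eq_add_neg] at this

theorem rel_map (g : M ⟶ M') {w : ↑((covK A).obj M ⊗ N)} {w' : ↑((covK A).obj N ⊗ M)} (h : Rel M N w w') :
    Rel M' N (((covK A).map g ▷ N).hom w) (((covK A).obj N ◁ g).hom w') := by
  obtain ⟨z, y, h1, h2, h3⟩ := h
  refine ⟨((covK A).map g ▷ (freeCov A).obj N).hom z, ((covK A).obj N ◁ (freeCov A).map g).hom y, ?_, ?_, ?_⟩
  · rw [← h1]
    exact (ConcreteCategory.congr_hom (whisker_exchange ((covK A).map g) ((freeCovπ A).app N)) z).symm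
  · rw [← h2]
    exact ConcreteCategory.congr_hom (by rw [← whiskerLeft_comp, ← whiskerLeft_comp]; exact congrArg _ ((freeCovπ A).naturality g) :
      (covK A).obj N ◁ (freeCov A).map g ≫ (covK A).obj N ◁ (freeCovπ A).app M'
        = (covK A).obj N ◁ (freeCovπ A).app M ≫ (covK A).obj N ◁ g) y
  · have e1 : (covK A).map g ▷ (freeCov A).obj N ≫ (covι A).app M' ▷ (freeCov A).obj N
        = (covι A).app M ▷ (freeCov A).obj N ≫ (freeCov A).map g ▷ (freeCov A).obj N := by
      rw [← comp_whiskerRight, ← comp_whiskerRight, (covι A).naturality g]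
    refine (congrArg (β_ ((freeCov A).obj M') ((freeCov A).obj N)).hom.hom (ConcreteCategory.congr_hom e1 z)).trans ?_
    refine (ConcreteCategory.congr_hom
      (BraidedCategory.braiding_naturality_left ((freeCov A).map g) ((freeCov A).obj N)) _).trans ?_
    refine (congrArg ((freeCov A).obj N ◁ (freeCov A).map g).hom h3).trans ?_
    exact (ConcreteCategory.congr_hom (whisker_exchange ((covι A).app N) ((freeCov A).map g)) y).symm

/-- The snake map. -/
noncomputable def swapFun (M N : ModuleCat.{u} A) (w : kerObj A M N) : kerObj A N M :=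
  ⟨(rel_exists w.2).choose, (rel_exists w.2).choose_spec.1⟩

theorem rel_swapFun (w : kerObj A M N) : Rel M N w.1 (swapFun M N w).1 :=
  (rel_exists w.2).choose_spec.2

/-- `ker (K M ⊗ N → F M ⊗ N) = ker (K N ⊗ M → F N ⊗ M)`. -/
noncomputable def swapEquiv (M N : ModuleCat.{u} A) : kerObj A M N ≃ₗ[A] kerObj A N M where
  toFun := swapFun M N
  map_add' w v := Subtype.ext (rel_unique (rel_swapFun _) ((rel_swapFun w).add (rel_swapFun v)))
  map_smul' a w := Subtype.ext (rel_unique (rel_swapFun _) ((rel_swapFun w).smul a))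
  invFun := swapFun N M
  left_inv w := Subtype.ext (rel_unique (rel_swapFun _) (rel_swapFun w).symm)
  right_inv w := Subtype.ext (rel_unique (rel_swapFun _) (rel_swapFun w).symm)

end swap

variable (A)

/-- Symmetry of the kernel bifunctor. -/
noncomputable def kerSwap : kerFun A ≅ (kerFun A).flip :=
  NatIso.ofComponents (fun M => NatIso.ofComponents (fun N => (swapEquiv M N).toModuleIso)
      (fun {N N'} f => by
        ext w : 2
        exact Subtype.ext (rel_unique (rel_swapFun _) (rel_map f (rel_swapFun w).symm).symm)))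
    (fun {M M'} g => by
      ext N w : 4
      exact Subtype.ext (rel_unique (rel_swapFun _) (rel_map g (rel_swapFun w))))

theorem kerObj_braid (M N : ModuleCat.{u} A) :
    ∀ x ∈ kerObj A N ((covK A).obj M),
      (β_ ((covK A).obj N) ((covK A).obj M)).hom.hom x ∈ kerObj A M ((covK A).obj N) := by
  intro x hx
  simp only [LinearMap.mem_ker] at hx ⊢
  apply Module.Flat.lTensor_preserves_injective_linearMap (M := (freeCov A).obj M) _ (inj_cov N)
  refine Eq.trans ?_ (map_zero _).symm
  refine (ConcreteCategory.congr_hom (whisker_exchange ((covι A).app M) ((covι A).app N)).symm _).trans ?_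
  refine (ConcreteCategory.congr_hom (whisker_exchange ((covι A).app M) ((covι A).app N)) _).trans ?_
  have e := ConcreteCategory.congr_hom
    (BraidedCategory.braiding_naturality ((covι A).app N) ((covι A).app M)) x
  have h0 : ((covι A).app N ⊗ₘ (covι A).app M).hom x = 0 := by
    rw [MonoidalCategory.tensorHom_def]
    exact (congrArg ((freeCov A).obj N ◁ (covι A).app M).hom hx).trans (map_zero _)
  have : ((covι A).app M ⊗ₘ (covι A).app N).hom ((β_ ((covK A).obj N) ((covK A).obj M)).hom.hom x) = 0 :=
    e.symm.trans ((congrArg (β_ ((freeCov A).obj N) ((freeCov A).obj M)).hom.hom h0).trans (map_zero _))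
  rw [MonoidalCategory.tensorHom_def] at this
  exact this

/-- The symmetry used in degree two. -/
noncomputable def kerSwap₂ : covK A ⋙ (kerFun A).flip ≅ (covK A ⋙ (kerFun A).flip).flip :=
  NatIso.ofComponents (fun M => NatIso.ofComponents (fun N =>
      { hom := ModuleCat.ofHom ((β_ ((covK A).obj N) ((covK A).obj M)).hom.hom.restrict (kerObj_braid A M N))
        inv := ModuleCat.ofHom ((β_ ((covK A).obj M) ((covK A).obj N)).hom.hom.restrict (kerObj_braid A N M))
        hom_inv_id := by
          ext x : 2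
          exact Subtype.ext (ConcreteCategory.congr_hom
            (SymmetricCategory.symmetry ((covK A).obj N) ((covK A).obj M)) x.1)
        inv_hom_id := by
          ext x : 2
          exact Subtype.ext (ConcreteCategory.congr_hom
            (SymmetricCategory.symmetry ((covK A).obj M) ((covK A).obj N)) x.1) })
      (fun {N N'} f => by
        ext x : 2
        exact Subtype.ext (ConcreteCategory.congr_hom
          (BraidedCategory.braiding_naturality_left ((covK A).map f) ((covK A).obj M)) x.1)))
    (fun {M M'} g => by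
      ext N x : 4
      exact Subtype.ext (ConcreteCategory.congr_hom
        (BraidedCategory.braiding_naturality_right ((covK A).obj N) ((covK A).map g)) x.1))

/-- The braiding of the tensor bifunctor. -/
noncomputable def tensorSwap :
    tensoringLeft (ModuleCat.{u} A) ≅ (tensoringLeft (ModuleCat.{u} A)).flip :=
  NatIso.ofComponents (fun M => NatIso.ofComponents (fun N => β_ M N)
      (fun f => BraidedCategory.braiding_naturality_right M f))
    (fun g => by ext N : 2; exact BraidedCategory.braiding_naturality_left g N)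

/-- Symmetry transported along an isomorphism. -/
noncomputable def symmOfIso {C : Type*} [Category C] {D : Type*} [Category D] {S X : C ⥤ C ⥤ D} (e : S ≅ X)
    (s : X ≅ X.flip) : S ≅ S.flip :=
  e ≪≫ s ≪≫ ((flipFunctor C C D).mapIso e).symm

/-- Whiskering of an isomorphism of bifunctors in the second variable. -/
noncomputable def whiskerBoth {C : Type*} [Category C] {D : Type*} [Category D] (K : C ⥤ C) {S T : C ⥤ C ⥤ D}
    (e : S ≅ T) : K ⋙ (K ⋙ S).flip ≅ K ⋙ (K ⋙ T).flip :=
  Functor.isoWhiskerLeft K ((flipFunctor C C D).mapIso (Functor.isoWhiskerLeft K e))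

/-- Symmetry of the doubly shifted bifunctor. -/
noncomputable def shiftSwap {C : Type*} [Category C] {D : Type*} [Category D] (K : C ⥤ C) {S : C ⥤ C ⥤ D}
    (e : S ≅ S.flip) : K ⋙ (K ⋙ S).flip ≅ (K ⋙ (K ⋙ S).flip).flip :=
  whiskerBoth K e ≪≫ NatIso.ofComponents (fun M => NatIso.ofComponents (fun N => Iso.refl _))

/-- `Tor` is balanced. -/
noncomputable def torBalance : ∀ n : ℕ,
    CategoryTheory.Tor (ModuleCat.{u} A) n ≅ (CategoryTheory.Tor (ModuleCat.{u} A) n).flip
  | 0 => symmOfIso (torZero A) (tensorSwap A)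
  | 1 => symmOfIso (torOne A) (kerSwap A)
  | 2 => symmOfIso (torShift A 0 ≪≫ Functor.isoWhiskerLeft (covK A) (torOne A ≪≫ kerSwap A))
      (kerSwap₂ A)
  | k + 3 => symmOfIso (torShift A (k + 1) ≪≫ Functor.isoWhiskerLeft (covK A)
      (torBalance (k + 2) ≪≫ (flipFunctor _ _ _).mapIso (torShift A k)))
      (shiftSwap (covK A) (torBalance (k + 1)))

end Groth.Agent.TorLib
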