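import Groth.Agent.TorLib.Basic
import Mathlib.Algebra.Homology.HomologySequenceLemmas
import Mathlib.Algebra.Category.ModuleCat.Adjunctions

/-! Naturality of the dimension shifting isomorphisms for `Tor`. -/

open CategoryTheory CategoryTheory.Limits MonoidalCategory

universe u

namespace Groth.Agent.TorLib

variable {A : Type u} [CommRing A]

section
variable {N N' : ModuleCat.{u} A} (P : ProjectiveResolution N) (Q : ProjectiveResolution N')

/-- The map `M ⊗ P ⟶ M ⊗ Q`. -/
noncomputable abbrev cxLeft (M : ModuleCat.{u} A) (φ : P.complex ⟶ Q.complex) : cx P M ⟶ cx Q M :=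
  ((tensorLeft M).mapHomologicalComplex _).map φ

/-- Functoriality of `cxSeq` in the short complex. -/
noncomputable def cxSeqMap {S S' : ShortComplex (ModuleCat.{u} A)} (ψ : S ⟶ S') :
    cxSeq P S ⟶ cxSeq P S' :=
  ShortComplex.homMk (cxMap P ψ.τ₁) (cxMap P ψ.τ₂) (cxMap P ψ.τ₃)
    (by
      ext n : 1
      show ψ.τ₁ ▷ P.complex.X n ≫ S'.f ▷ P.complex.X n = S.f ▷ P.complex.X n ≫ ψ.τ₂ ▷ P.complex.X n
      rw [← comp_whiskerRight, ← comp_whiskerRight, ψ.comm₁₂])
    (by
      ext n : 1
      show ψ.τ₂ ▷ P.complex.X n ≫ S'.g ▷ P.complex.X n = S.g ▷ P.complex.X n ≫ ψ.τ₃ ▷ P.complex.X n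
      rw [← comp_whiskerRight, ← comp_whiskerRight, ψ.comm₂₃])

/-- Functoriality of `cxSeq` in the resolution. -/
noncomputable def cxSeqLeft (S : ShortComplex (ModuleCat.{u} A)) (φ : P.complex ⟶ Q.complex) :
    cxSeq P S ⟶ cxSeq Q S :=
  ShortComplex.homMk (cxLeft P Q S.X₁ φ) (cxLeft P Q S.X₂ φ) (cxLeft P Q S.X₃ φ)
    (by ext n : 1; exact whisker_exchange _ _)
    (by ext n : 1; exact whisker_exchange _ _)

theorem h0Iso_naturality_left (M : ModuleCat.{u} A) (f : N ⟶ N') (φ : P.complex ⟶ Q.complex)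
    (comm : φ.f 0 ≫ Q.π.f 0 = P.π.f 0 ≫ f) :
    HomologicalComplex.homologyMap (cxLeft P Q M φ) 0 ≫ (h0Iso Q M).hom
      = (h0Iso P M).hom ≫ (M ◁ f) := by
  simp only [h0Iso, Iso.trans_hom, asIso_hom, ChainComplex.isoHomologyι₀, HomologicalComplex.isoHomologyι_hom]
  rw [← Category.assoc, HomologicalComplex.homologyι_naturality, Category.assoc, Category.assoc]
  congr 1
  rw [← cancel_epi ((cx P M).pOpcycles 0), HomologicalComplex.p_opcyclesMap_assoc, p_aug,
    ← Category.assoc, p_aug]
  exact ((tensorLeft M).map_comp _ _).symm.trans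
    ((congrArg (tensorLeft M).map comm).trans ((tensorLeft M).map_comp _ _))

variable {P Q}

/-- The connecting map `H_1 (X₃ ⊗ P) ⟶ X₁ ⊗ N`. -/
noncomputable def oneHom {S : ShortComplex (ModuleCat.{u} A)} (hS : S.ShortExact) :
    (cx P S.X₃).homology 1 ⟶ S.X₁ ⊗ N :=
  (cxSeq_shortExact P hS).δ 1 0 (by simp) ≫ (h0Iso P S.X₁).hom

theorem oneHom_nat {S S' : ShortComplex (ModuleCat.{u} A)} (hS : S.ShortExact) (hS' : S'.ShortExact)
    (ψ : S ⟶ S') :
    HomologicalComplex.homologyMap (cxMap P ψ.τ₃) 1 ≫ oneHom hS'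
      = oneHom hS ≫ (ψ.τ₁ ▷ N) := by
  have := HomologicalComplex.HomologySequence.δ_naturality (cxSeqMap P ψ) (cxSeq_shortExact P hS)
    (cxSeq_shortExact P hS') 1 0 (by simp)
  rw [oneHom, oneHom, Category.assoc, ← h0Iso_naturality P ψ.τ₁, ← Category.assoc, ← Category.assoc]
  exact congrArg (· ≫ _) this.symm

theorem oneHom_nat_left {S : ShortComplex (ModuleCat.{u} A)} (hS : S.ShortExact)
    (f : N ⟶ N') (φ : P.complex ⟶ Q.complex) (comm : φ.f 0 ≫ Q.π.f 0 = P.π.f 0 ≫ f) :
    HomologicalComplex.homologyMap (cxLeft P Q S.X₃ φ) 1 ≫ oneHom hS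
      = oneHom hS ≫ (S.X₁ ◁ f) := by
  have := HomologicalComplex.HomologySequence.δ_naturality (cxSeqLeft P Q S φ) (cxSeq_shortExact P hS)
    (cxSeq_shortExact Q hS) 1 0 (by simp)
  rw [oneHom, oneHom, Category.assoc, ← h0Iso_naturality_left P Q S.X₁ f φ comm, ← Category.assoc,
    ← Category.assoc]
  exact congrArg (· ≫ _) this.symm

theorem oneIso_hom {S : ShortComplex (ModuleCat.{u} A)} (hS : S.ShortExact) [Module.Flat A S.X₂] :
    (oneIso P hS).hom ≫ ModuleCat.ofHom (LinearMap.ker (S.f ▷ N).hom).subtype = oneHom hS := by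
  have h := cxSeq_shortExact P hS
  haveI : Mono (h.δ 1 0 (by simp)) :=
    (h.homology_exact₃ 1 0 (by simp)).mono_g ((isZero_X₂ P 0).eq_of_src _ _)
  have he := (h.homology_exact₁ 1 0 rfl).fIsKernel.conePointUniqueUpToIso_hom_comp
    (ModuleCat.kernelIsLimit _) WalkingParallelPair.zero
  ext x
  exact congrArg (h0Iso P S.X₁).hom (ConcreteCategory.congr_hom he x)

theorem shiftIso_nat {S S' : ShortComplex (ModuleCat.{u} A)} (hS : S.ShortExact) (hS' : S'.ShortExact)
    [Module.Flat A S.X₂] [Module.Flat A S'.X₂] (ψ : S ⟶ S') (n : ℕ) :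
    HomologicalComplex.homologyMap (cxMap P ψ.τ₃) (n + 2) ≫ (shiftIso P hS' n).hom
      = (shiftIso P hS n).hom ≫ HomologicalComplex.homologyMap (cxMap P ψ.τ₁) (n + 1) :=
  (HomologicalComplex.HomologySequence.δ_naturality (cxSeqMap P ψ) (cxSeq_shortExact P hS)
    (cxSeq_shortExact P hS') (n + 2) (n + 1) (by simp)).symm

theorem shiftIso_nat_left {S : ShortComplex (ModuleCat.{u} A)} (hS : S.ShortExact)
    [Module.Flat A S.X₂] (φ : P.complex ⟶ Q.complex) (n : ℕ) :
    HomologicalComplex.homologyMap (cxLeft P Q S.X₃ φ) (n + 2) ≫ (shiftIso Q hS n).hom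
      = (shiftIso P hS n).hom ≫ HomologicalComplex.homologyMap (cxLeft P Q S.X₁ φ) (n + 1) :=
  (HomologicalComplex.HomologySequence.δ_naturality (cxSeqLeft P Q S φ) (cxSeq_shortExact P hS)
    (cxSeq_shortExact Q hS) (n + 2) (n + 1) (by simp)).symm

theorem torIso_nat {M M' : ModuleCat.{u} A} (g : M ⟶ M') (n : ℕ) :
    ((CategoryTheory.Tor (ModuleCat.{u} A) n).map g).app N ≫ (torIso P M' n).hom
      = (torIso P M n).hom ≫ HomologicalComplex.homologyMap (cxMap P g) n := by
  show (NatTrans.leftDerived ((tensoringLeft (ModuleCat.{u} A)).map g) n).app N ≫ _ = _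
  rw [ProjectiveResolution.leftDerived_app_eq _ P n]
  show ((torIso P M n).hom ≫ HomologicalComplex.homologyMap (cxMap P g) n ≫ (torIso P M' n).inv) ≫
    (torIso P M' n).hom = _
  rw [Category.assoc, Category.assoc, Iso.inv_hom_id, Category.comp_id]

theorem torIso_nat_left (M : ModuleCat.{u} A) (f : N ⟶ N') (φ : P.complex ⟶ Q.complex)
    (comm : φ.f 0 ≫ Q.π.f 0 = P.π.f 0 ≫ f) (n : ℕ) :
    ((CategoryTheory.Tor (ModuleCat.{u} A) n).obj M).map f ≫ (torIso Q M n).hom
      = (torIso P M n).hom ≫ HomologicalComplex.homologyMap (cxLeft P Q M φ) n :=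
  ProjectiveResolution.isoLeftDerivedObj_hom_naturality f P Q φ comm (tensorLeft M) n

end

/-- A chosen lift of a map to the chosen resolutions. -/
noncomputable def liftMap {N N' : ModuleCat.{u} A} (f : N ⟶ N') :
    (projectiveResolution N).complex ⟶ (projectiveResolution N').complex :=
  ProjectiveResolution.lift f (projectiveResolution N) (projectiveResolution N')

theorem liftMap_comm {N N' : ModuleCat.{u} A} (f : N ⟶ N') :
    (liftMap f).f 0 ≫ (projectiveResolution N').π.f 0 = (projectiveResolution N).π.f 0 ≫ f :=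
  ProjectiveResolution.lift_commutes_zero f _ _

variable (A)

/-- The free cover. -/
noncomputable abbrev freeCov : ModuleCat.{u} A ⥤ ModuleCat.{u} A :=
  forget (ModuleCat.{u} A) ⋙ ModuleCat.free A

/-- The free cover map. -/
noncomputable abbrev freeCovπ : freeCov A ⟶ 𝟭 (ModuleCat.{u} A) := (ModuleCat.adj A).counit

instance flat_freeCov (X : ModuleCat.{u} A) : Module.Flat A ((freeCov A).obj X) :=
  inferInstanceAs (Module.Flat A (X →₀ A))

/-- The kernel of the free cover. -/
noncomputable def covK : ModuleCat.{u} A ⥤ ModuleCat.{u} A where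
  obj M := kernel ((freeCovπ A).app M)
  map g := kernel.map _ _ ((freeCov A).map g) g ((freeCovπ A).naturality g).symm
  map_id X := by
    rw [← cancel_mono (kernel.ι _), kernel.lift_ι, CategoryTheory.Functor.map_id, Category.comp_id,
      Category.id_comp]
  map_comp f g := by
    rw [← cancel_mono (kernel.ι _), kernel.lift_ι, Category.assoc, kernel.lift_ι, kernel.lift_ι_assoc,
      Functor.map_comp, Category.assoc]

/-- The inclusion of the kernel of the free cover. -/
noncomputable def covι : covK A ⟶ freeCov A where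
  app M := kernel.ι _
  naturality _ _ _ := kernel.lift_ι _ _ _

/-- The functorial presentation. -/
noncomputable def covSeq (M : ModuleCat.{u} A) : ShortComplex (ModuleCat.{u} A) :=
  ShortComplex.mk ((covι A).app M) ((freeCovπ A).app M) (kernel.condition _)

variable {A}

theorem epi_freeCovπ (X : ModuleCat.{u} A) : Epi ((freeCovπ A).app X) := by
  rw [ModuleCat.epi_iff_surjective]
  intro x
  exact ⟨ModuleCat.freeMk x, ModuleCat.freeDesc_apply _ x⟩

theorem covSeq_shortExact (M : ModuleCat.{u} A) : (covSeq A M).ShortExact where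
  exact := ShortComplex.exact_of_f_is_kernel _ (kernelIsKernel _)
  mono_f := inferInstanceAs (Mono (kernel.ι _))
  epi_g := epi_freeCovπ M

instance flat_covSeq (M : ModuleCat.{u} A) : Module.Flat A (covSeq A M).X₂ := flat_freeCov A M

/-- Functoriality of the presentation. -/
noncomputable def covSeqMap {M M' : ModuleCat.{u} A} (g : M ⟶ M') : covSeq A M ⟶ covSeq A M' :=
  ShortComplex.homMk ((covK A).map g) ((freeCov A).map g) g ((covι A).naturality g)
    ((freeCovπ A).naturality g)

end Groth.Agent.TorLib
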