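import Groth.Agent.TorLib.Basic
import Mathlib.Algebra.Category.ModuleCat.FilteredColimits
import Mathlib.Algebra.Homology.HomologicalComplexLimits
import Mathlib.CategoryTheory.Limits.Types.Filtered

/-! Homology commutes with filtered colimits; `Tor` in the first variable preserves them. -/

set_option autoImplicit false
universe u
open CategoryTheory CategoryTheory.Limits MonoidalCategory

namespace Groth.Agent.TorLib

variable {A : Type u} [CommRing A]

theorem exists_cycle {K : ChainComplex (ModuleCat.{u} A) ℕ} {i : ℕ} (x : K.X i)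
    (hx : K.d i ((ComplexShape.down ℕ).next i) x = 0) : ∃ c, K.iCycles i c = x :=
  (ShortComplex.moduleCat_exact_iff _).1 (ShortComplex.exact_of_f_is_kernel
    (ShortComplex.mk (K.iCycles i) (K.d i ((ComplexShape.down ℕ).next i)) (K.iCycles_d _ _))
    (K.cyclesIsKernel i _ rfl)) x hx

theorem π_eq_zero_iff (K : ChainComplex (ModuleCat.{u} A) ℕ) (i : ℕ) (c : K.cycles i) :
    K.homologyπ i c = 0 ↔ ∃ y, K.d (i + 1) i y = K.iCycles i c := by
  constructor
  · intro h
    obtain ⟨y, hy⟩ := (ShortComplex.moduleCat_exact_iff _).1 (ShortComplex.exact_of_g_is_cokernel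
      (ShortComplex.mk (K.toCycles (i + 1) i) (K.homologyπ i) (K.toCycles_comp_homologyπ _ _))
      (K.homologyIsCokernel (i + 1) i (by simp))) c h
    refine ⟨y, ?_⟩
    rw [← hy]
    exact (ConcreteCategory.congr_hom (K.toCycles_i (i + 1) i) y).symm
  · rintro ⟨y, hy⟩
    have h1 : K.toCycles (i + 1) i y = c := (ModuleCat.mono_iff_injective (K.iCycles i)).1 inferInstance
      ((ConcreteCategory.congr_hom (K.toCycles_i (i + 1) i) y).trans hy)
    rw [← h1]
    exact ConcreteCategory.congr_hom (K.toCycles_comp_homologyπ (i + 1) i) y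

variable {J : Type u} [SmallCategory J] [IsFiltered J]

instance preservesColimitsOfShape_homology (i : ℕ) :
    PreservesColimitsOfShape J
      (HomologicalComplex.homologyFunctor (ModuleCat.{u} A) (ComplexShape.down ℕ) i) where
  preservesColimit {K} := ⟨fun {c} hc => by
    let H := HomologicalComplex.homologyFunctor (ModuleCat.{u} A) (ComplexShape.down ℕ) i
    have hev : ∀ n, IsColimit ((HomologicalComplex.eval (ModuleCat.{u} A) (ComplexShape.down ℕ) n).mapCocone c) :=
      fun n => isColimitOfPreserves _ hc
    refine ⟨isColimitOfReflects (forget (ModuleCat.{u} A)) (Types.FilteredColimit.isColimitOf' _ _ ?_ ?_)⟩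
    · intro (ξ : c.pt.homology i)
      obtain ⟨z, rfl⟩ := (ModuleCat.epi_iff_surjective (c.pt.homologyπ i)).1 inferInstance ξ
      obtain ⟨j, x, hx⟩ := Concrete.isColimit_exists_rep _ (hev i) (c.pt.iCycles i z)
      have hx' : (c.ι.app j).f i x = c.pt.iCycles i z := hx
      obtain ⟨k, f, g, hk⟩ := Concrete.isColimit_exists_of_rep_eq _
        (hev ((ComplexShape.down ℕ).next i)) ((K.obj j).d i _ x)
        (0 : (K.obj j).X ((ComplexShape.down ℕ).next i)) (by
          show (c.ι.app j).f _ ((K.obj j).d i _ x) = (c.ι.app j).f _ 0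
          rw [map_zero, ← ConcreteCategory.comp_apply, ← (c.ι.app j).comm i _,
            ConcreteCategory.comp_apply, hx']
          exact ConcreteCategory.congr_hom (c.pt.iCycles_d i _) z)
      obtain ⟨y, hy⟩ := exists_cycle ((K.map f).f i x) (by
        rw [← ConcreteCategory.comp_apply ((K.map f).f i), (K.map f).comm i _, ConcreteCategory.comp_apply]
        exact hk.trans (map_zero _))
      refine ⟨k, (K.obj k).homologyπ i y, ?_⟩
      show c.pt.homologyπ i z = HomologicalComplex.homologyMap (c.ι.app k) i ((K.obj k).homologyπ i y)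
      rw [← ConcreteCategory.comp_apply ((K.obj k).homologyπ i), HomologicalComplex.homologyπ_naturality,
        ConcreteCategory.comp_apply]
      congr 1
      refine (ModuleCat.mono_iff_injective (c.pt.iCycles i)).1 inferInstance ?_
      rw [← ConcreteCategory.comp_apply]
      erw [HomologicalComplex.cyclesMap_i, ConcreteCategory.comp_apply, hy]
      rw [← ConcreteCategory.comp_apply, ← HomologicalComplex.comp_f, c.w]
      exact hx'.symm
    · intro j (ξ₁ : (K.obj j).homology i) (ξ₂ : (K.obj j).homology i) h
      have h' : HomologicalComplex.homologyMap (c.ι.app j) i (ξ₁ - ξ₂) = 0 := by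
        rw [map_sub, sub_eq_zero]; exact h
      obtain ⟨y, hy⟩ := (ModuleCat.epi_iff_surjective ((K.obj j).homologyπ i)).1 inferInstance (ξ₁ - ξ₂)
      rw [← hy, ← ConcreteCategory.comp_apply, HomologicalComplex.homologyπ_naturality,
        ConcreteCategory.comp_apply, π_eq_zero_iff] at h'
      obtain ⟨w, hw⟩ := h'
      obtain ⟨j', w', hw'⟩ := Concrete.isColimit_exists_rep _ (hev (i + 1)) w
      have hw'' : (c.ι.app j').f (i + 1) w' = w := hw'
      obtain ⟨k, f, g, hk⟩ := Concrete.isColimit_exists_of_rep_eq _ (hev i)
        ((K.obj j).iCycles i y) ((K.obj j').d (i + 1) i w') (by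
          show (c.ι.app j).f i ((K.obj j).iCycles i y) = (c.ι.app j').f i ((K.obj j').d (i + 1) i w')
          rw [← ConcreteCategory.comp_apply ((K.obj j').d (i + 1) i), ← (c.ι.app j').comm (i + 1) i,
            ConcreteCategory.comp_apply, hw'']
          erw [hw]
          rw [← ConcreteCategory.comp_apply, ← HomologicalComplex.cyclesMap_i, ConcreteCategory.comp_apply])
      refine ⟨k, f, ?_⟩
      show HomologicalComplex.homologyMap (K.map f) i ξ₁ = HomologicalComplex.homologyMap (K.map f) i ξ₂
      rw [← sub_eq_zero, ← map_sub, ← hy, ← ConcreteCategory.comp_apply,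
        HomologicalComplex.homologyπ_naturality, ConcreteCategory.comp_apply, π_eq_zero_iff]
      refine ⟨(K.map g).f (i + 1) w', ?_⟩
      rw [← ConcreteCategory.comp_apply ((K.map g).f (i + 1)), (K.map g).comm (i + 1) i,
        ConcreteCategory.comp_apply, ← ConcreteCategory.comp_apply (HomologicalComplex.cyclesMap (K.map f) i),
        HomologicalComplex.cyclesMap_i, ConcreteCategory.comp_apply]
      exact hk.symm⟩

/-- `M ↦ M ⊗ P`. -/
noncomputable def cxFunctor {N : ModuleCat.{u} A} (P : ProjectiveResolution N) :
    ModuleCat.{u} A ⥤ ChainComplex (ModuleCat.{u} A) ℕ where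
  obj M := cx P M
  map g := cxMap P g
  map_id M := by
    ext n : 1
    exact id_whiskerRight M (P.complex.X n)
  map_comp f g := by
    ext n : 1
    exact comp_whiskerRight f g (P.complex.X n)

instance preservesColimitsOfShape_cxFunctor {N : ModuleCat.{u} A} (P : ProjectiveResolution N) :
    PreservesColimitsOfShape J (cxFunctor P) :=
  HomologicalComplex.preservesColimitsOfShape_of_eval (cxFunctor P) fun n => by
    haveI : PreservesColimitsOfShape J (tensorRight (P.complex.X n)) :=
      preservesColimitsOfShape_of_natIso (BraidedCategory.tensorLeftIsoTensorRight (P.complex.X n))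
    exact preservesColimitsOfShape_of_natIso
      (NatIso.ofComponents (fun M => Iso.refl _) (fun {M M'} g => by
        refine (Category.comp_id _).trans (Category.id_comp _).symm) :
        tensorRight (P.complex.X n) ≅
          cxFunctor P ⋙ HomologicalComplex.eval (ModuleCat.{u} A) (ComplexShape.down ℕ) n)

/-- `Tor_p(-, N)` as a homology functor. -/
noncomputable def torFlipIso {N : ModuleCat.{u} A} (P : ProjectiveResolution N) (p : ℕ) :
    (CategoryTheory.Tor (ModuleCat.{u} A) p).flip.obj N ≅
      cxFunctor P ⋙ HomologicalComplex.homologyFunctor (ModuleCat.{u} A) (ComplexShape.down ℕ) p :=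
  NatIso.ofComponents (fun M => torIso P M p) (fun {M M'} g => by
    show (NatTrans.leftDerived ((tensoringLeft (ModuleCat.{u} A)).map g) p).app N ≫ (torIso P M' p).hom = _
    rw [P.leftDerived_app_eq]
    simp only [torIso, Category.assoc]
    erw [Iso.inv_hom_id, Category.comp_id]
    rfl)

theorem preservesColimitsOfShape_tor_flip (p : ℕ) (N : ModuleCat.{u} A) :
    PreservesColimitsOfShape J ((CategoryTheory.Tor (ModuleCat.{u} A) p).flip.obj N) :=
  preservesColimitsOfShape_of_natIso (torFlipIso (projectiveResolution N) p).symm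

end Groth.Agent.TorLib
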