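import Groth.Agent.TorLib.Symm
import Mathlib.RingTheory.Regular.RegularSequence
import Mathlib.CategoryTheory.Monoidal.Linear
import Mathlib.Algebra.Homology.Linear

/-! `Tor_p (A/J, M) = Hom (A/J, M)` for a regular sequence of length `p` generating `J`. -/

set_option autoImplicit false
universe u
open CategoryTheory CategoryTheory.Limits MonoidalCategory TensorProduct

namespace Groth.Agent.TorLib

variable {A : Type u} [CommRing A]

theorem homologyMap_smul_cx {N : ModuleCat.{u} A} (P : ProjectiveResolution N) (X : ModuleCat.{u} A)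
    (x : A) (n : ℕ) :
    HomologicalComplex.homologyMap (cxMap P (x • 𝟙 X)) n = x • 𝟙 ((cx P X).homology n) := by
  have h : cxMap P (x • 𝟙 X) = x • 𝟙 (cx P X) := by
    ext m : 1
    show (x • 𝟙 X) ▷ P.complex.X m = _
    rw [MonoidalLinear.smul_whiskerRight, id_whiskerRight]
    rfl
  rw [h, ← cancel_epi ((cx P X).homologyπ n), HomologicalComplex.homologyπ_naturality,
    Linear.comp_smul, Category.comp_id]
  have hc : HomologicalComplex.cyclesMap (x • 𝟙 (cx P X)) n = x • 𝟙 ((cx P X).cycles n) := by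
    rw [← cancel_mono ((cx P X).iCycles n), HomologicalComplex.cyclesMap_i, Linear.smul_comp,
      Category.id_comp, HomologicalComplex.smul_f_apply, HomologicalComplex.id_f, Linear.comp_smul,
      Category.comp_id]
  rw [hc, Linear.smul_comp, Category.id_comp]

theorem ofList_concat (ys : List A) (x : A) :
    Ideal.ofList (ys ++ [x]) = Ideal.ofList ys ⊔ Ideal.span {x} := by
  rw [Ideal.ofList_append, Ideal.ofList_singleton]

theorem hom_quot_equiv (J J' : Ideal A) (x : A) (hJ : J = J' ⊔ Ideal.span {x})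
    (M : Type u) [AddCommGroup M] [Module A M] :
    Nonempty (LinearMap.ker (x • LinearMap.id : ((A ⧸ J') →ₗ[A] M) →ₗ[A] _) ≃ₗ[A] ((A ⧸ J) →ₗ[A] M)) := by
  have hle : J' ≤ J := hJ ▸ le_sup_left
  let pre : ((A ⧸ J) →ₗ[A] M) →ₗ[A] ((A ⧸ J') →ₗ[A] M) :=
    LinearMap.lcomp A M (Submodule.factor hle)
  have hx : ∀ φ : (A ⧸ J) →ₗ[A] M, x • φ = 0 := fun φ => LinearMap.ext fun a => by
    obtain ⟨a, rfl⟩ := Submodule.Quotient.mk_surjective _ a
    rw [LinearMap.smul_apply, ← map_smul, ← Submodule.Quotient.mk_smul,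
      (Submodule.Quotient.mk_eq_zero _).2
        (hJ ▸ Submodule.mem_sup_right (Ideal.mul_mem_right a _ (Ideal.mem_span_singleton_self x))),
      map_zero]
    rfl
  let g := pre.codRestrict (LinearMap.ker (x • LinearMap.id : ((A ⧸ J') →ₗ[A] M) →ₗ[A] _)) fun φ => by
    rw [LinearMap.mem_ker, LinearMap.smul_apply, LinearMap.id_apply, ← map_smul, hx, map_zero]
  refine ⟨(LinearEquiv.ofBijective g ⟨?_, ?_⟩).symm⟩
  · intro φ ψ h
    refine LinearMap.ext fun a => ?_
    obtain ⟨b, rfl⟩ := Submodule.factor_surjective hle a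
    exact LinearMap.congr_fun (congrArg Subtype.val h) b
  · rintro ⟨φ, hφ⟩
    have hφ' : x • φ = 0 := hφ
    refine ⟨Submodule.liftQ J (φ ∘ₗ J'.mkQ) ?_, Subtype.ext (LinearMap.ext fun a => ?_)⟩
    · rw [hJ, sup_le_iff]
      refine ⟨fun a ha => ?_, ?_⟩
      · rw [LinearMap.mem_ker, LinearMap.comp_apply, Submodule.mkQ_apply,
          (Submodule.Quotient.mk_eq_zero _).2 ha, map_zero]
      · rw [Ideal.span_le, Set.singleton_subset_iff, SetLike.mem_coe, LinearMap.mem_ker,
          LinearMap.comp_apply, Submodule.mkQ_apply]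
        rw [show (Submodule.Quotient.mk x : A ⧸ J') = x • (Submodule.Quotient.mk 1 : A ⧸ J') by
          rw [← Submodule.Quotient.mk_smul, smul_eq_mul, mul_one], map_smul, ← LinearMap.smul_apply, hφ']
        rfl
    · obtain ⟨a, rfl⟩ := Submodule.Quotient.mk_surjective _ a
      rfl

theorem top_regular {M : ModuleCat.{u} A} (Q : ProjectiveResolution M) :
    ∀ xs : List A, RingTheory.Sequence.IsWeaklyRegular A xs →
      (∀ n, xs.length < n → IsZero ((cx Q (ModuleCat.of A (A ⧸ Ideal.ofList xs))).homology n)) ∧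
      Nonempty ((cx Q (ModuleCat.of A (A ⧸ Ideal.ofList xs))).homology xs.length ≃ₗ[A]
        ((A ⧸ Ideal.ofList xs) →ₗ[A] M)) := by
  intro xs
  induction xs using List.reverseRecOn with
  | nil =>
    intro _
    let e : (A ⧸ Ideal.ofList ([] : List A)) ≃ₗ[A] A :=
      (Submodule.quotEquivOfEqBot _ Ideal.ofList_nil)
    haveI : Module.Flat A (ModuleCat.of A (A ⧸ Ideal.ofList ([] : List A))) :=
      Module.Flat.of_linearEquiv e
    refine ⟨fun n hn => ?_, ⟨?_⟩⟩
    · obtain ⟨m, rfl⟩ : ∃ m, n = m + 1 := ⟨n - 1, by simp at hn; omega⟩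
      exact (HomologicalComplex.exactAt_iff_isZero_homology _ _).mp (exactAt_succ_of_flat Q _ m)
    · exact (h0Iso Q _).toLinearEquiv.trans ((LinearEquiv.rTensor M e).trans
        ((TensorProduct.lid A M).trans ((LinearMap.ringLmapEquivSelf A A M).symm.trans
          (LinearEquiv.congrLeft M A e.symm))))
  | append_singleton ys x ih =>
    intro hreg
    rw [RingTheory.Sequence.isWeaklyRegular_append_iff] at hreg
    obtain ⟨hv, ⟨eq⟩⟩ := ih hreg.1
    have hx : IsSMulRegular (A ⧸ Ideal.ofList ys) x := by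
      have h := (RingTheory.Sequence.isWeaklyRegular_singleton_iff _ x).1 hreg.2
      refine (LinearEquiv.isSMulRegular_congr (Submodule.quotEquivOfEq _ _ ?_) x).1 h
      rw [smul_eq_mul, Ideal.mul_top]
    have hJ := ofList_concat ys x
    have hle : Ideal.ofList ys ≤ Ideal.ofList (ys ++ [x]) := hJ ▸ le_sup_left
    -- the short exact sequence
    let μ : ModuleCat.of A (A ⧸ Ideal.ofList ys) ⟶ ModuleCat.of A (A ⧸ Ideal.ofList ys) :=
      x • 𝟙 _
    let π : ModuleCat.of A (A ⧸ Ideal.ofList ys) ⟶ ModuleCat.of A (A ⧸ Ideal.ofList (ys ++ [x])) :=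
      ModuleCat.ofHom (Submodule.factor hle)
    have hw : μ ≫ π = 0 := ModuleCat.hom_ext (LinearMap.ext fun y => by
      obtain ⟨a, rfl⟩ := Submodule.Quotient.mk_surjective _ y
      exact (Submodule.Quotient.mk_eq_zero _).2 (hJ ▸ Submodule.mem_sup_right
        (Ideal.mul_mem_right a _ (Ideal.mem_span_singleton_self x))))
    let S := ShortComplex.mk μ π hw
    have hS : S.ShortExact :=
      { exact := (ShortComplex.ShortExact.moduleCat_exact_iff_function_exact _).mpr (by
          intro y
          obtain ⟨a, rfl⟩ := Submodule.Quotient.mk_surjective _ y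
          constructor
          · intro h
            have h' : a ∈ Ideal.ofList ys ⊔ Ideal.span {x} := hJ ▸ (Submodule.Quotient.mk_eq_zero _).1 h
            obtain ⟨b, hb, c, hc, rfl⟩ := Submodule.mem_sup.1 h'
            obtain ⟨d, rfl⟩ := Ideal.mem_span_singleton.1 hc
            exact ⟨Submodule.Quotient.mk d, ((Submodule.Quotient.eq _).2 (by simpa using hb)).symm⟩
          · rintro ⟨z, hz⟩
            rw [← hz]
            exact LinearMap.congr_fun (congrArg ModuleCat.Hom.hom hw) z)
        mono_f := (ModuleCat.mono_iff_injective _).mpr hx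
        epi_g := (ModuleCat.epi_iff_surjective _).mpr (Submodule.factor_surjective hle) }
    have hS' := cxSeq_shortExact Q hS
    rw [List.length_append, List.length_singleton]
    refine ⟨fun n hn => ?_, ?_⟩
    · obtain ⟨m, rfl⟩ : ∃ m, n = m + 1 := ⟨n - 1, by omega⟩
      exact (hS'.homology_exact₃ (m + 1) m (by simp)).isZero_of_both_zeros
        ((hv (m + 1) (by omega)).eq_of_src _ _) ((hv m (by omega)).eq_of_tgt _ _)
    · haveI : Mono (hS'.δ (ys.length + 1) ys.length (by simp)) :=
        (hS'.homology_exact₃ (ys.length + 1) ys.length (by simp)).mono_g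
          ((hv (ys.length + 1) (by omega)).eq_of_src _ _)
      have hex := hS'.homology_exact₁ (ys.length + 1) ys.length (by simp)
      let e₁ : (cx Q S.X₃).homology (ys.length + 1) ≅ kernel (HomologicalComplex.homologyMap (cxMap Q μ) ys.length) :=
        hex.fIsKernel.conePointUniqueUpToIso (limit.isLimit _)
      let e₂ := kernelIsoOfEq (homologyMap_smul_cx Q (ModuleCat.of A (A ⧸ Ideal.ofList ys)) x ys.length) ≪≫
        ModuleCat.kernelIsoKer _
      obtain ⟨e₃⟩ := hom_quot_equiv (Ideal.ofList (ys ++ [x])) (Ideal.ofList ys) x hJ M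
      refine ⟨(e₁ ≪≫ e₂).toLinearEquiv.trans ((LinearEquiv.ofSubmodules eq _ _ ?_).trans e₃)⟩
      ext y
      obtain ⟨z, rfl⟩ := eq.surjective y
      rw [Submodule.mem_map_equiv, LinearEquiv.symm_apply_apply, LinearMap.mem_ker, LinearMap.mem_ker,
        LinearMap.smul_apply, LinearMap.id_apply, ← map_smul, LinearEquiv.map_eq_zero_iff]
      rfl

theorem tor'_top_regular (xs : List A) (hreg : RingTheory.Sequence.IsWeaklyRegular A xs)
    (M : Type u) [AddCommGroup M] [Module A M] :
    Nonempty (↑(((Tor' (ModuleCat.{u} A) xs.length).obj (ModuleCat.of A (A ⧸ Ideal.ofList xs))).obj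
      (ModuleCat.of A M)) ≃ₗ[A] ((A ⧸ Ideal.ofList xs) →ₗ[A] M)) := by
  let X : ModuleCat.{u} A := ModuleCat.of A (A ⧸ Ideal.ofList xs)
  let P := projectiveResolution X
  let iso : ((Tor' (ModuleCat.{u} A) xs.length).obj X).obj (ModuleCat.of A M) ≅
      (cx P (ModuleCat.of A M)).homology xs.length :=
    P.isoLeftDerivedObj (tensorRight (ModuleCat.of A M)) xs.length ≪≫
      (HomologicalComplex.homologyFunctor _ _ xs.length).mapIso
        ((NatIso.mapHomologicalComplex (BraidedCategory.tensorLeftIsoTensorRight (ModuleCat.of A M)).symm _).app P.complex)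
  obtain ⟨e⟩ := tor_symm (A := A) xs.length M (A ⧸ Ideal.ofList xs)
  obtain ⟨-, ⟨e'⟩⟩ := top_regular (projectiveResolution (ModuleCat.of A M)) xs hreg
  exact ⟨iso.toLinearEquiv.trans (((torIso P (ModuleCat.of A M) xs.length).symm.toLinearEquiv).trans
    (e.trans ((torIso (projectiveResolution (ModuleCat.of A M)) X xs.length).toLinearEquiv.trans e')))⟩

end Groth.Agent.TorLib
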