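import Mathlib

/-! Exactness of complexes of flat modules can be tested on residue fields. -/

set_option autoImplicit false
universe u
open TensorProduct

namespace Groth.Agent.TorLib

variable {A : Type u} [CommRing A] {F : ℕ → Type u} [∀ i, AddCommGroup (F i)] [∀ i, Module A (F i)]
  (d : ∀ i, F (i + 1) →ₗ[A] F i)

/-- Exactness of `N ⊗ F` at `i + 1`. -/
def ExAt (N : Type u) [AddCommGroup N] [Module A N] (i : ℕ) : Prop :=
  ∀ z : N ⊗[A] F (i + 1), (d i).lTensor N z = 0 → ∃ y, (d (i + 1)).lTensor N y = z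

variable {d}

theorem lTensor_rTensor {N N' : Type u} [AddCommGroup N] [Module A N] [AddCommGroup N'] [Module A N']
    (g : N →ₗ[A] N') (i : ℕ) (z : N ⊗[A] F (i + 1)) :
    (d i).lTensor N' (g.rTensor (F (i + 1)) z) = g.rTensor (F i) ((d i).lTensor N z) := by
  rw [← LinearMap.comp_apply, ← LinearMap.comp_apply, LinearMap.lTensor_comp_rTensor,
    LinearMap.rTensor_comp_lTensor]

theorem lTensor_d_d (hd : ∀ i, d i ∘ₗ d (i + 1) = 0) (N : Type u) [AddCommGroup N] [Module A N] (i : ℕ)
    (y : N ⊗[A] F (i + 1 + 1)) : (d i).lTensor N ((d (i + 1)).lTensor N y) = 0 := by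
  rw [← LinearMap.lTensor_comp_apply, hd, LinearMap.lTensor_zero, LinearMap.zero_apply]

theorem ExAt.of_subsingleton {N : Type u} [AddCommGroup N] [Module A N] [Subsingleton N] (i : ℕ) :
    ExAt d N i := fun z _ => ⟨0, by
      rw [map_zero]
      exact (Subsingleton.elim (α := N ⊗[A] F (i + 1)) _ _)⟩

theorem ExAt.of_equiv {N N' : Type u} [AddCommGroup N] [Module A N] [AddCommGroup N'] [Module A N']
    (e : N ≃ₗ[A] N') {i : ℕ} (h : ExAt d N i) : ExAt d N' i := by
  intro z hz
  obtain ⟨y, hy⟩ := h (e.symm.toLinearMap.rTensor _ z) (by rw [lTensor_rTensor, hz, map_zero])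
  refine ⟨e.toLinearMap.rTensor _ y, ?_⟩
  rw [lTensor_rTensor, hy, ← LinearMap.rTensor_comp_apply]
  simp

variable [∀ i, Module.Flat A (F i)]

theorem ExAt.of_exact (hd : ∀ i, d i ∘ₗ d (i + 1) = 0)
    {N₁ N₂ N₃ : Type u} [AddCommGroup N₁] [Module A N₁] [AddCommGroup N₂] [Module A N₂]
    [AddCommGroup N₃] [Module A N₃] {f : N₁ →ₗ[A] N₂} {g : N₂ →ₗ[A] N₃} (hf : Function.Injective f)
    (hg : Function.Surjective g) (hfg : Function.Exact f g) {i : ℕ} (h₁ : ExAt d N₁ i) (h₃ : ExAt d N₃ i) :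
    ExAt d N₂ i := by
  intro z hz
  obtain ⟨y₃, hy₃⟩ := h₃ (g.rTensor _ z) (by rw [lTensor_rTensor, hz, map_zero])
  obtain ⟨y₂, hy₂⟩ := LinearMap.rTensor_surjective (F (i + 1 + 1)) hg y₃
  have h0 : g.rTensor (F (i + 1)) (z - (d (i + 1)).lTensor N₂ y₂) = 0 := by
    rw [map_sub, ← lTensor_rTensor, hy₂, hy₃, sub_self]
  obtain ⟨w, hw⟩ := (rTensor_exact (F (i + 1)) hfg hg _).1 h0
  obtain ⟨v, hv⟩ := h₁ w (Module.Flat.rTensor_preserves_injective_linearMap f hf (by
    rw [← lTensor_rTensor, hw, map_zero, map_sub, hz, lTensor_d_d hd, sub_zero]))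
  exact ⟨f.rTensor _ v + y₂, by rw [map_add, lTensor_rTensor, hv, hw, sub_add_cancel]⟩

/-- It suffices to test on finite modules. -/
theorem ExAt.of_fg {N : Type u} [AddCommGroup N] [Module A N] {i : ℕ}
    (h : ∀ S : Submodule A N, S.FG → ExAt d S i) : ExAt d N i := by
  intro z hz
  obtain ⟨S, hS, x, hx⟩ : ∃ S : Submodule A N, S.FG ∧ ∃ x, S.subtype.rTensor (F (i + 1)) x = z := by
    clear hz
    induction z using TensorProduct.induction_on with
    | zero => exact ⟨⊥, Submodule.fg_bot, 0, map_zero _⟩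
    | tmul n m =>
      exact ⟨A ∙ n, Submodule.fg_span_singleton n, ⟨n, Submodule.mem_span_singleton_self n⟩ ⊗ₜ m, rfl⟩
    | add a b ha hb =>
      obtain ⟨S, hS, x, hx⟩ := ha
      obtain ⟨T, hT, y, hy⟩ := hb
      refine ⟨S ⊔ T, hS.sup hT, (Submodule.inclusion le_sup_left).rTensor _ x
        + (Submodule.inclusion le_sup_right).rTensor _ y, ?_⟩
      rw [map_add, ← LinearMap.rTensor_comp_apply, ← LinearMap.rTensor_comp_apply,
        Submodule.subtype_comp_inclusion, Submodule.subtype_comp_inclusion, hx, hy]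
  obtain ⟨y, hy⟩ := h S hS x (Module.Flat.rTensor_preserves_injective_linearMap _ S.injective_subtype (by
    rw [← lTensor_rTensor, hx, hz, map_zero]))
  exact ⟨S.subtype.rTensor _ y, by rw [lTensor_rTensor, hy, hx]⟩

/-- An element of `k(p) ⊗ M` becomes integral after multiplying by an element outside `p`. -/
theorem exists_rTensor_eq {p : Ideal A} [p.IsPrime] (φ : (A ⧸ p) →ₗ[A] p.ResidueField)
    (hφ : ∀ a, φ a = algebraMap (A ⧸ p) p.ResidueField a) (M : Type u) [AddCommGroup M] [Module A M]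
    (y : p.ResidueField ⊗[A] M) : ∃ s ∉ p, ∃ y', φ.rTensor M y' = s • y := by
  induction y using TensorProduct.induction_on with
  | zero => exact ⟨1, p.ne_top_iff_one.1 Ideal.IsPrime.ne_top', 0, by rw [map_zero, smul_zero]⟩
  | tmul r m =>
    obtain ⟨a, ⟨b, hb⟩, hab⟩ := IsLocalization.exists_mk'_eq (nonZeroDivisors (A ⧸ p)) r
    obtain ⟨s, rfl⟩ := Ideal.Quotient.mk_surjective b
    refine ⟨s, fun hs => nonZeroDivisors.ne_zero hb (Ideal.Quotient.eq_zero_iff_mem.2 hs), a ⊗ₜ m, ?_⟩
    rw [LinearMap.rTensor_tmul, hφ, ← hab, TensorProduct.smul_tmul']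
    congr 1
    rw [Algebra.smul_def, IsScalarTower.algebraMap_apply A (A ⧸ p) p.ResidueField]
    exact (IsLocalization.mk'_spec' p.ResidueField a ⟨Ideal.Quotient.mk p s, hb⟩).symm
  | add a b ha hb =>
    obtain ⟨s, hs, y, hy⟩ := ha
    obtain ⟨t, ht, x, hx⟩ := hb
    refine ⟨s * t, fun h => (Ideal.IsPrime.mem_or_mem' h).elim hs ht, t • y + s • x, ?_⟩
    rw [map_add, map_smul, map_smul, hy, hx, smul_smul, smul_smul, smul_add, mul_comm t s]

/-- The criterion: exactness on residue fields in an upward closed range gives exactness for all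
modules. -/
theorem exAt_of_residueField [IsNoetherianRing A] (hd : ∀ i, d i ∘ₗ d (i + 1) = 0) (m : ℕ)
    (hfib : ∀ (p : Ideal A) [p.IsPrime] (i : ℕ), m ≤ i → ExAt d p.ResidueField i)
    (N : Type u) [AddCommGroup N] [Module A N] (i : ℕ) (hi : m ≤ i) : ExAt d N i := by
  suffices key : ∀ (I : Ideal A) (N : Type u) [AddCommGroup N] [Module A N] [Module.Finite A N],
      (∀ a ∈ I, ∀ x : N, a • x = 0) → ∀ i, m ≤ i → ExAt d N i from
    ExAt.of_fg fun S hS => by
      haveI : Module.Finite A S := Module.Finite.iff_fg.2 hS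
      exact key ⊥ S (fun a ha x => by rw [(Submodule.mem_bot A).1 ha, zero_smul]) i hi
  intro I
  induction I using WellFoundedGT.induction with
  | ind I ih =>
  intro N _ _ _
  induction ‹Module.Finite A N› using IsNoetherianRing.induction_on_isQuotientEquivQuotientPrime A with
  | subsingleton M => exact fun _ i _ => ExAt.of_subsingleton i
  | quotient M q e =>
    intro hI i hi
    have hle : I ≤ q.asIdeal := fun a ha => by
      have := congrArg e (hI a ha (e.symm 1))
      rw [map_smul, LinearEquiv.apply_symm_apply, map_zero, Algebra.smul_def, mul_one] at this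
      exact Ideal.Quotient.eq_zero_iff_mem.1 this
    refine ExAt.of_equiv e.symm ?_
    have hkill : ∀ (J : Ideal A) (a : A), a ∈ J → ∀ x : A ⧸ J, a • x = 0 := fun J a ha x => by
      rw [Algebra.smul_def, Ideal.Quotient.algebraMap_eq, Ideal.Quotient.eq_zero_iff_mem.2 ha, zero_mul]
    rcases hle.lt_or_eq with hlt | rfl
    · exact ih _ hlt _ (hkill _) i hi
    -- the main case: `I` is prime
    let p := q.asIdeal
    intro z hz
    let φ : (A ⧸ p) →ₗ[A] p.ResidueField := (IsScalarTower.toAlgHom A (A ⧸ p) p.ResidueField).toLinearMap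
    have hφ : Function.Injective φ := IsFractionRing.injective (A ⧸ p) p.ResidueField
    obtain ⟨y, hy⟩ := hfib p i hi (φ.rTensor _ z) (by rw [lTensor_rTensor, hz, map_zero])
    obtain ⟨s, hs, y', hy'⟩ := exists_rTensor_eq φ (fun _ => rfl) _ y
    have hsz : (d (i + 1)).lTensor (A ⧸ p) y' = s • z :=
      Module.Flat.rTensor_preserves_injective_linearMap φ hφ (by
        rw [← lTensor_rTensor, hy', map_smul, hy, map_smul])
    -- multiplication by `s` on `A ⧸ p`
    let μ : (A ⧸ p) →ₗ[A] (A ⧸ p) := s • LinearMap.id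
    have hμ : Function.Injective μ := (injective_iff_map_eq_zero μ).2 fun x hx => by
      obtain ⟨a, rfl⟩ := Ideal.Quotient.mk_surjective x
      have h1 : s * a ∈ p := Ideal.Quotient.eq_zero_iff_mem.1 hx
      exact Ideal.Quotient.eq_zero_iff_mem.2 ((Ideal.IsPrime.mem_or_mem' h1).resolve_left hs)
    let J : Ideal A := p ⊔ Ideal.span {s}
    let π : (A ⧸ p) →ₗ[A] (A ⧸ J) := (Ideal.Quotient.factorₐ A (le_sup_left : p ≤ J)).toLinearMap
    have hπ : Function.Surjective π := Ideal.Quotient.factor_surjective le_sup_left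
    have hμπ : Function.Exact μ π := fun x => by
      obtain ⟨a, rfl⟩ := Ideal.Quotient.mk_surjective x
      constructor
      · intro ha
        have : a ∈ J := Ideal.Quotient.eq_zero_iff_mem.1 ha
        obtain ⟨b, hb, c, hc, rfl⟩ := Submodule.mem_sup.1 this
        obtain ⟨r, rfl⟩ := Ideal.mem_span_singleton'.1 hc
        refine ⟨Ideal.Quotient.mk p r, ?_⟩
        show Ideal.Quotient.mk p (s * r) = _
        rw [Ideal.Quotient.eq]
        have h2 : s * r - (b + r * s) = -b := by ring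
        rw [h2]; exact p.neg_mem hb
      · rintro ⟨x, hx⟩
        obtain ⟨r, rfl⟩ := Ideal.Quotient.mk_surjective x
        rw [← hx]
        exact Ideal.Quotient.eq_zero_iff_mem.2 (J.mul_mem_right r
          (Submodule.mem_sup_right (Ideal.mem_span_singleton_self s)))
    have hrμ : ∀ j (w : (A ⧸ p) ⊗[A] F j), μ.rTensor (F j) w = s • w := fun j w => by
      simp only [μ, LinearMap.rTensor_smul, LinearMap.rTensor_id, LinearMap.smul_apply, LinearMap.id_apply]
    have hJ : p < J := lt_of_le_of_ne le_sup_left fun h => hs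
      (h.symm ▸ Submodule.mem_sup_right (Ideal.mem_span_singleton_self s) : s ∈ p)
    -- reduce `y'` modulo `J`
    have hcyc : (d (i + 1)).lTensor (A ⧸ J) (π.rTensor _ y') = 0 := by
      rw [lTensor_rTensor, hsz, ← hrμ, ← LinearMap.rTensor_comp_apply, hμπ.linearMap_comp_eq_zero,
        LinearMap.rTensor_zero, LinearMap.zero_apply]
    obtain ⟨v, hv⟩ := ih J hJ (A ⧸ J) (hkill J) (i + 1) (hi.trans (Nat.le_succ i)) _ hcyc
    obtain ⟨v', hv'⟩ := LinearMap.rTensor_surjective (F (i + 1 + 1 + 1)) hπ v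
    have h0 : π.rTensor _ (y' - (d (i + 1 + 1)).lTensor _ v') = 0 := by
      rw [map_sub, ← lTensor_rTensor, hv', hv, sub_self]
    obtain ⟨w, hw⟩ := (rTensor_exact _ hμπ hπ _).1 h0
    refine ⟨w, Module.Flat.rTensor_preserves_injective_linearMap μ hμ ?_⟩
    rw [← lTensor_rTensor, hw, map_sub, lTensor_d_d hd, sub_zero, hsz, hrμ]
  | exact M₁ M₂ M₃ f g hf hg hfg h₁ h₃ =>
    intro hI i hi
    exact ExAt.of_exact hd hf hg hfg
      (h₁ (fun a ha x => hf (by rw [map_smul, hI a ha, map_zero])) i hi)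
      (h₃ (fun a ha x => by obtain ⟨y, rfl⟩ := hg x; rw [← map_smul, hI a ha, map_zero]) i hi)

end Groth.Agent.TorLib
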