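import Mathlib.Algebra.Homology.Embedding.ExtendHomology
import Mathlib.Algebra.Homology.Additive

/-! Termwise functors commute with extension of complexes. -/

universe v v' u u'
open CategoryTheory CategoryTheory.Limits HomologicalComplex

namespace Groth.Agent.TorLib

variable {ι ι' : Type*} {c : ComplexShape ι} {c' : ComplexShape ι'}
  {C : Type u} [Category.{v} C] [HasZeroObject C] [Preadditive C]
  {D : Type u'} [Category.{v'} D] [HasZeroObject D] [Preadditive D]

/-- Components. -/
noncomputable def mapXIso (F : C ⥤ D) [F.Additive] (K : HomologicalComplex C c) :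
    ∀ o : Option ι, F.obj (extend.X K o) ≅ extend.X ((F.mapHomologicalComplex c).obj K) o
  | some _ => Iso.refl _
  | none => (F.map_isZero (extend.isZero_X K rfl)).iso (extend.isZero_X _ rfl)

theorem mapXIso_d (F : C ⥤ D) [F.Additive] (K : HomologicalComplex C c) : ∀ o o' : Option ι,
    F.map (extend.d K o o') ≫ (mapXIso F K o').hom
      = (mapXIso F K o).hom ≫ extend.d ((F.mapHomologicalComplex c).obj K) o o'
  | none, _ => (F.map_isZero (extend.isZero_X K rfl)).eq_of_src _ _
  | some _, none => (extend.isZero_X _ rfl).eq_of_tgt _ _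
  | some i, some j => by
    show F.map (K.d i j) ≫ 𝟙 _ = 𝟙 _ ≫ F.map (K.d i j)
    exact (Category.comp_id _).trans (Category.id_comp _).symm

theorem mapXIso_natural (F : C ⥤ D) [F.Additive] {K L : HomologicalComplex C c} (φ : K ⟶ L) :
    ∀ o : Option ι, F.map (extend.mapX φ o) ≫ (mapXIso F L o).hom
      = (mapXIso F K o).hom ≫ extend.mapX ((F.mapHomologicalComplex c).map φ) o
  | none => (F.map_isZero (extend.isZero_X K rfl)).eq_of_src _ _
  | some i => by
    show F.map (φ.f i) ≫ 𝟙 _ = 𝟙 _ ≫ F.map (φ.f i)
    exact (Category.comp_id _).trans (Category.id_comp _).symm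

theorem mapXIso_natural' {F G : C ⥤ D} [F.Additive] [G.Additive] (α : F ⟶ G) (K : HomologicalComplex C c) :
    ∀ o : Option ι, α.app (extend.X K o) ≫ (mapXIso G K o).hom
      = (mapXIso F K o).hom ≫ extend.mapX ((NatTrans.mapHomologicalComplex α c).app K) o
  | none => (F.map_isZero (extend.isZero_X K rfl)).eq_of_src _ _
  | some i => by
    show α.app (K.X i) ≫ 𝟙 _ = 𝟙 _ ≫ α.app (K.X i)
    exact (Category.comp_id _).trans (Category.id_comp _).symm

/-- `F (K.extend e) ≅ (F K).extend e`. -/
noncomputable def mapExtend (F : C ⥤ D) [F.Additive] (K : HomologicalComplex C c) (e : c.Embedding c') :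
    (F.mapHomologicalComplex c').obj (K.extend e) ≅ ((F.mapHomologicalComplex c).obj K).extend e :=
  HomologicalComplex.Hom.isoOfComponents (fun i' => mapXIso F K (e.r i'))
    fun i' j' _ => (mapXIso_d F K (e.r i') (e.r j')).symm

theorem mapExtend_natural (F : C ⥤ D) [F.Additive] {K L : HomologicalComplex C c} (φ : K ⟶ L)
    (e : c.Embedding c') :
    (F.mapHomologicalComplex c').map (extendMap φ e) ≫ (mapExtend F L e).hom
      = (mapExtend F K e).hom ≫ extendMap ((F.mapHomologicalComplex c).map φ) e := by
  ext i' : 1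
  exact mapXIso_natural F φ (e.r i')

theorem mapExtend_natural' {F G : C ⥤ D} [F.Additive] [G.Additive] (α : F ⟶ G)
    (K : HomologicalComplex C c) (e : c.Embedding c') :
    (NatTrans.mapHomologicalComplex α c').app (K.extend e) ≫ (mapExtend G K e).hom
      = (mapExtend F K e).hom ≫ extendMap ((NatTrans.mapHomologicalComplex α c).app K) e := by
  ext i' : 1
  exact mapXIso_natural' α K (e.r i')

end Groth.Agent.TorLib
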